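import Cfsg.Agent.Push.PY
import Cfsg.Agent.Push.Two
import Cfsg.Agent.Push.S4
import Cfsg.Agent.LocalEven.WeakCl
import Cfsg.Agent.LocalEven.CharP3
import Cfsg.Agent.Transfer.Replacement
import Cfsg.Prelude.Def_BaumannBlocks

/-! The Baumann subgroup: basic properties. -/

namespace Cfsg.Agent.BHS

open Subgroup Cfsg.Agent.LocalEven Cfsg.Agent.Glaub
open scoped commutatorElement

variable {G : Type*} [Group G] {p : ℕ} {T U E Q B : Subgroup G}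

/-- The Baumann subgroup. -/
scoped notation "Bm" => Cfsg.baumannSubgroupOf
/-- The Thompson subgroup. -/
scoped notation "Jt" => Cfsg.thompsonSubgroupOf
/-- `Ω₁ Z`. -/
scoped notation "OZ" => Cfsg.omegaOneCenter

theorem bm_eq (T : Subgroup G) : Bm p T = T ⊓ 𝐂⟮OZ p (Jt p T)⟯ := rfl

theorem bm_le (T : Subgroup G) : Bm p T ≤ T := inf_le_left

theorem bm_le_cent (T : Subgroup G) : Bm p T ≤ 𝐂⟮OZ p (Jt p T)⟯ := inf_le_right

theorem jt_le (T : Subgroup G) : Jt p T ≤ T := Transfer.thompsonSubgroupOf_le T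

theorem jt_le_bm (T : Subgroup G) : Jt p T ≤ Bm p T :=
  le_inf (jt_le T) (le_centralizer_omegaOneCenter _)

theorem map_jt {H : Type*} [Group H] {f : G →* H} (hf : Function.Injective f) (T : Subgroup G) :
    (Jt p T).map f = Jt p (T.map f) := Transfer.map_thompsonSubgroupOf_of_injective T hf

theorem cj_jt (g : G) (T : Subgroup G) : cj g (Jt p T) = Jt p (cj g T) :=
  map_jt (MulAut.conj g).injective T

theorem cj_bm (g : G) (T : Subgroup G) : cj g (Bm p T) = Bm p (cj g T) := by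
  rw [bm_eq, bm_eq, cj_inf, cj_centralizer, cj_omegaOneCenter, cj_jt]

theorem map_inf_cent {H : Type*} [Group H] {f : G →* H} (hf : Function.Injective f)
    (X Y : Subgroup G) : (X ⊓ 𝐂⟮Y⟯).map f = X.map f ⊓ 𝐂⟮Y.map f⟯ := by
  ext y
  constructor
  · rintro ⟨x, hx, rfl⟩
    refine mem_inf.2 ⟨mem_map_of_mem f hx.1, ?_⟩
    rintro _ ⟨z, hz, rfl⟩
    rw [← map_mul, ← map_mul, hx.2 z hz]
  · rintro ⟨⟨x, hx, rfl⟩, h⟩
    exact ⟨x, mem_inf.2 ⟨hx, fun z hz => hf (by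
      rw [map_mul, map_mul]; exact h _ (mem_map_of_mem f hz))⟩, rfl⟩

theorem map_bm {H : Type*} [Group H] {f : G →* H} (hf : Function.Injective f) (T : Subgroup G) :
    (Bm p T).map f = Bm p (T.map f) := by
  rw [bm_eq, bm_eq, ← map_jt hf, ← map_omegaOneCenter_of_injective f hf]
  exact map_inf_cent hf _ _

theorem norm_le_norm_bm (T : Subgroup G) : 𝐍⟮T⟯ ≤ 𝐍⟮Bm p T⟯ := fun g hg =>
  cj_eq_self_iff.1 (by rw [cj_bm, cj_eq_of_mem_normalizer hg])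

theorem norm_le_norm_jt (T : Subgroup G) : 𝐍⟮T⟯ ≤ 𝐍⟮Jt p T⟯ :=
  Transfer.normalizer_le_normalizer_thompsonSubgroupOf T

theorem cj_mem_maxEA {A : Subgroup G} (h : A ∈ Transfer.MaxEA p T) (g : G) :
    cj g A ∈ Transfer.MaxEA p (cj g T) := by
  rw [cj_eq_smul, cj_eq_smul]; exact Transfer.conj_smul_mem_maxEA h g

variable [Finite G]

theorem jt_eq_of_le (h1 : Jt p T ≤ U) (h2 : U ≤ T) : Jt p U = Jt p T :=
  Transfer.thompsonSubgroupOf_eq_of_le h1 h2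

theorem jt_bm (T : Subgroup G) : Jt p (Bm p T) = Jt p T := jt_eq_of_le (jt_le_bm T) (bm_le T)

theorem bm_eq_of_le (h1 : Bm p T ≤ U) (h2 : U ≤ T) : Bm p U = Bm p T := by
  have e := jt_eq_of_le ((jt_le_bm T).trans h1) h2
  rw [bm_eq U, e]
  exact le_antisymm (inf_le_inf_right _ h2) (le_inf h1 (bm_le_cent T))

theorem bm_bm (T : Subgroup G) : Bm p (Bm p T) = Bm p T := bm_eq_of_le le_rfl (bm_le T)

theorem norm_bm_le_norm_jt (T : Subgroup G) : 𝐍⟮Bm p T⟯ ≤ 𝐍⟮Jt p T⟯ := by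
  have := norm_le_norm_jt (p := p) (Bm p T)
  rwa [jt_bm] at this

/-- An elementary abelian subgroup of `T` centralized by `J(T)` is centralized by `B(T)`. -/
theorem bm_le_cent_of {Y : Subgroup G} (h1 : Y ≤ T) (h2 : ∀ y ∈ Y, y ^ p = 1)
    (h3 : Y ≤ 𝐂⟮Jt p T⟯) : Bm p T ≤ 𝐂⟮Y⟯ :=
  (bm_le_cent T).trans (Push.cent_anti fun y hy => mem_omegaOneCenter.2
    ⟨Transfer.mem_thompsonSubgroupOf_of_mem_centralizer (h1 hy) (h2 y hy) (h3 hy), h3 hy, h2 y hy⟩)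

theorem cj_jt_eq {g : G} (h : cj g (Jt p T) ≤ T) : cj g (Jt p T) = Jt p T := by
  rw [cj_eq_smul] at h ⊢; exact Transfer.conj_smul_thompsonSubgroupOf_eq_of_le h

theorem cj_bm_eq {g : G} (h : cj g (Bm p T) ≤ T) : cj g (Bm p T) = Bm p T := by
  have e := cj_jt_eq ((cj_mono g (jt_le_bm T)).trans h)
  refine eq_of_le_of_card_le (le_inf h ?_) (card_cj g _).ge
  have := cj_mono g (bm_le_cent (p := p) T)
  rwa [cj_centralizer, cj_omegaOneCenter, e] at this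

variable [hp : Fact p.Prime]

theorem wc_bm (hT : IsSylowIn p T ⊤) : WC p (Bm p T) :=
  wc_of_sylow hT (bm_le T) fun _ => cj_bm_eq

theorem wc_jt (hT : IsSylowIn p T ⊤) : WC p (Jt p T) :=
  wc_of_sylow hT (jt_le T) fun _ => cj_jt_eq

/-- If the `p`-group `U` contains `B(T)` then `B(U) = B(T)`. -/
theorem bm_eq_of_le' (hT : IsSylowIn p T ⊤) (hU : IsPGroup p U) (h : Bm p T ≤ U) :
    Bm p U = Bm p T := by
  obtain ⟨g, -, hg⟩ := hT.exists_le_cj hU le_top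
  have e : cj g⁻¹ (Bm p T) = Bm p T := cj_bm_eq (le_cj_iff.1 (h.trans hg))
  have e' : Bm p (cj g T) = Bm p T := by
    rw [← cj_bm, ← e, cj_cj_inv, e]
  rw [← e']
  exact bm_eq_of_le (e'.le.trans h) hg

theorem jt_eq_of_le' (hT : IsSylowIn p T ⊤) (hU : IsPGroup p U) (h : Jt p T ≤ U) :
    Jt p U = Jt p T := by
  obtain ⟨g, -, hg⟩ := hT.exists_le_cj hU le_top
  have e : cj g⁻¹ (Jt p T) = Jt p T := cj_jt_eq (le_cj_iff.1 (h.trans hg))
  have e' : Jt p (cj g T) = Jt p T := by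
    rw [← cj_jt, ← e, cj_cj_inv, e]
  rw [← e']
  exact jt_eq_of_le (e'.le.trans h) hg

omit [Finite G] hp in
theorem norm_of_comm_eq (h : ⁅E, B⁆ = E) : B ≤ 𝐍⟮E⟯ := by
  have := right_le_normalizer_commutator E B
  rwa [h] at this

omit [Finite G] hp in
/-- If `E = [E, B]`, `E` normalizes `X` and `B ≤ X` then `E ≤ X`. -/
theorem le_of_comm_eq {X : Subgroup G} (h : ⁅E, B⁆ = E) (h1 : E ≤ 𝐍⟮X⟯) (h2 : B ≤ X) : E ≤ X :=
  h.ge.trans ((commutator_mono le_rfl h2).trans (commutator_le_right_of_le_normalizer h1))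

omit [Finite G] hp in
/-- If `x` normalizes the `p`-group `K ≤ N(E)` and `[x, E] ≤ K` then `x` normalizes `E`. -/
theorem mem_norm_of_comm [Finite G] {K : Subgroup G} (hE : pResOf p E = E) (hK : IsPGroup p K)
    (hn : K ≤ 𝐍⟮E⟯) {x : G} (h1 : x ∈ 𝐍⟮K⟯) (h2 : ∀ e ∈ E, ⁅x, e⁆ ∈ K) : x ∈ 𝐍⟮E⟯ := by
  have e : pResOf p (E ⊔ K) = E := (pResOf_sup_eq hK hn).trans hE
  rw [← e]
  refine normalizer_le_normalizer_pResOf _ (mem_normalizer_of_cj_le ?_)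
  rw [cj_sup, cj_eq_of_mem_normalizer h1]
  refine sup_le (cj_le_iff'.2 fun e he => ?_) le_sup_right
  have : x * e * x⁻¹ = ⁅x, e⁆ * e := by rw [commutatorElement_def]; group
  rw [this]
  exact mul_mem (mem_sup_right (h2 e he)) (mem_sup_left he)

/-- A `p`-subgroup normalized by `B` and `E = O^p(E) = [E, B]` normalizes `E`. -/
theorem le_norm_of_wc (hB : WC p B) (hE : pResOf p E = E) (hc : ⁅E, B⁆ = E) (hQ : IsPGroup p Q)
    (h1 : B ≤ 𝐍⟮Q⟯) (h2 : E ≤ 𝐍⟮Q⟯) : Q ≤ 𝐍⟮E⟯ := by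
  by_contra hn
  have hlt : Q ⊓ 𝐍⟮E⟯ < Q := lt_of_le_of_ne inf_le_left fun e => hn (e.ge.trans inf_le_right)
  obtain ⟨x, hx, hx1, hx2⟩ := exists_mem_normalizer_of_lt hQ hlt
  have hBE := norm_of_comm_eq hc
  have nE : E ≤ 𝐍⟮Q ⊓ 𝐍⟮E⟯⟯ := le_normalizer_inf h2 (le_normalizer.trans le_normalizer)
  have hQB : ⁅Q, B⁆ ≤ Q ⊓ 𝐍⟮E⟯ := le_inf (commutator_le_left_of_le_normalizer h1)
    ((commutator_le_right_of_le_normalizer (hB.le_norm_of_normalizes hQ h1)).trans hBE)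
  have k : E ≤ centMod Q (Q ⊓ 𝐍⟮E⟯) := le_of_comm_eq hc (le_normalizer_centMod h2 nE)
    (le_centMod.2 ⟨le_normalizer_inf h1 (hBE.trans le_normalizer), hQB⟩)
  exact hx2 (mem_inf.2 ⟨hx, mem_norm_of_comm hE (hQ.to_le inf_le_left) inf_le_right hx1
    fun e he => (mem_centMod.1 (k he)).2 x hx⟩)

end Cfsg.Agent.BHS
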