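import Cfsg.Agent.BHS.Mdl

/-! Blocks. -/

namespace Cfsg.Agent.BHS

open Subgroup Cfsg.Agent.LocalEven Cfsg.Agent.Glaub Cfsg.Agent.Push Equiv
open scoped commutatorElement MatrixGroups

/-- `Ω₁ Z O_p(E)`. -/
scoped notation "𝐖⟮" p ", " E "⟯" => Cfsg.omegaOneCenter p (Cfsg.pCoreOf p E)
/-- The centralizer of `E` in `Ω₁ Z O_p(E)`. -/
scoped notation "𝐙⟮" p ", " E "⟯" =>
  Cfsg.omegaOneCenter p (Cfsg.pCoreOf p E) ⊓ Subgroup.centralizer (SetLike.coe E)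
/-- `[Ω₁ Z O_p(E), E]`. -/
scoped notation "𝐔⟮" p ", " E "⟯" => ⁅Cfsg.omegaOneCenter p (Cfsg.pCoreOf p E), E⁆

variable {G : Type*} [Group G] {p : ℕ} {B E A N K T : Subgroup G} {g : G}

/-- The data of an exceptional block. -/
structure Exc (p : ℕ) (F : Type) [Field F] [Fintype F] (B E : Subgroup G) : Prop where
  three : p = 3
  nat : ∃ ψ, Mdl E (pCoreOf p E) 𝐖⟮p, E⟯ ψ (RL F)
  comm : ⁅pCoreOf p E, pCoreOf p E⁆ = 𝐙⟮p, E⟯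
  phi : phi (pCoreOf p E) = 𝐙⟮p, E⟯
  cen : E ⊓ 𝐂⟮E⟯ = 𝐙⟮p, E⟯
  card : Nat.card ↥(𝐙⟮p, E⟯) = Fintype.card F
  quad : ∀ b ∈ B, b ∉ 𝐂⟮𝐖⟮p, E⟯⟯ → ¬ ⁅⁅pCoreOf p E, zpowers b⁆, zpowers b⁆ ≤ 𝐙⟮p, E⟯

/-- Linear blocks. -/
def LinB (p : ℕ) (B E : Subgroup G) : Prop :=
  ∃ (F : Type) (_ : Field F) (_ : Fintype F) (_ : CharP F p),
    (∃ ψ, Mdl E 𝐖⟮p, E⟯ 𝐙⟮p, E⟯ ψ (RL F)) ∧ (pCoreOf p E = 𝐖⟮p, E⟯ ∨ Exc p F B E)

/-- Alternating blocks. -/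
def PerB (p : ℕ) (E : Subgroup G) : Prop :=
  p = 2 ∧ pCoreOf p E = 𝐖⟮p, E⟯ ∧ ∃ n, Odd n ∧ 3 ≤ n ∧ ∃ ψ, Mdl E 𝐖⟮p, E⟯ 𝐙⟮p, E⟯ ψ (RP n)

/-- A block relative to `B`. -/
structure Blk (p : ℕ) (B E : Subgroup G) : Prop where
  res : pResOf p E = E
  cB : ⁅E, B⁆ = E
  cQ : ⁅pCoreOf p E, E⁆ = pCoreOf p E
  ker : E ⊓ centMod 𝐖⟮p, E⟯ 𝐙⟮p, E⟯ ≤ pCoreOf p E
  kind : LinB p B E ∨ PerB p E

theorem norm_W (E : Subgroup G) : 𝐍⟮E⟯ ≤ 𝐍⟮𝐖⟮p, E⟯⟯ :=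
  (normalizer_le_normalizer_pCoreOf E).trans (normalizer_le_normalizer_omegaOneCenter _)

theorem norm_Z (E : Subgroup G) : 𝐍⟮E⟯ ≤ 𝐍⟮𝐙⟮p, E⟯⟯ :=
  le_normalizer_inf (norm_W E) (normalizer_le_normalizer_centralizer E)

theorem norm_U (E : Subgroup G) : 𝐍⟮E⟯ ≤ 𝐍⟮𝐔⟮p, E⟯⟯ := le_normalizer_commutator (norm_W E) le_rfl

theorem W_le_Q (E : Subgroup G) : 𝐖⟮p, E⟯ ≤ pCoreOf p E := omegaOneCenter_le _

theorem W_le (E : Subgroup G) : 𝐖⟮p, E⟯ ≤ E := (W_le_Q E).trans (pCoreOf_le E)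

theorem U_le_W (E : Subgroup G) : 𝐔⟮p, E⟯ ≤ 𝐖⟮p, E⟯ :=
  commutator_le_left_of_le_normalizer (le_normalizer.trans (norm_W E))

theorem U_le (E : Subgroup G) : 𝐔⟮p, E⟯ ≤ E := (U_le_W E).trans (W_le E)

theorem Q_cent_W (E : Subgroup G) : pCoreOf p E ≤ 𝐂⟮𝐖⟮p, E⟯⟯ := le_centralizer_omegaOneCenter _

theorem W_cent_W (E : Subgroup G) : 𝐖⟮p, E⟯ ≤ 𝐂⟮𝐖⟮p, E⟯⟯ := (W_le_Q E).trans (Q_cent_W E)

theorem cent_le_centMod {V : Subgroup G} (h : N ≤ V) : 𝐂⟮V⟯ ≤ centMod V N :=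
  le_centMod.2 ⟨(Push.cent_anti h).trans (centralizer_le_normalizer' N), by
    rw [comm_bot_of_le_cent (le_cent_comm le_rfl)]; exact bot_le⟩

theorem cj_W (g : G) (E : Subgroup G) : cj g 𝐖⟮p, E⟯ = 𝐖⟮p, cj g E⟯ := by
  rw [cj_omegaOneCenter, cj_pCoreOf]

theorem cj_Z (g : G) (E : Subgroup G) : cj g 𝐙⟮p, E⟯ = 𝐙⟮p, cj g E⟯ := by
  rw [cj_inf, cj_W, cj_centralizer]

theorem cj_U (g : G) (E : Subgroup G) : cj g 𝐔⟮p, E⟯ = 𝐔⟮p, cj g E⟯ := by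
  rw [cj_commutator, cj_W]

theorem mdl_of_nat {F : Type*} [Field F] {W Z : Subgroup G} {σ ψ} (d : NatData F E W Z σ ψ)
    (hr : σ.range = commutator SL(2, F)) (hZ : E ≤ 𝐍⟮Z⟯) : Mdl E W Z ψ (RL F) := by
  have s : Sec W Z ψ := ⟨d.le, d.mul, d.surj, d.ker⟩
  have k : ∀ e : E, act W ψ e = mvP (σ e) := fun e => Equiv.ext
    (s.act_eq (d.norm e.2) (hZ e.2) fun u hu => d.conj e u hu)
  refine ⟨s, d.norm, hZ, fun e he => ⟨σ ⟨e, he⟩, hr ▸ ⟨_, rfl⟩, (k ⟨e, he⟩).symm⟩, ?_⟩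
  rintro _ ⟨g, hg, rfl⟩
  obtain ⟨e, rfl⟩ := hr.ge hg
  exact ⟨e, e.2, k e⟩

theorem NatData.norm_ker {F : Type*} [Field F] {W Z : Subgroup G} {σ ψ} (d : NatData F E W Z σ ψ) :
    E ≤ 𝐍⟮Z⟯ := le_normalizer_of_cj_le fun e he => cj_le_iff'.2 fun z hz => by
  rw [← d.ker _ (conj_mem_of_mem_normalizer (d.norm he) (d.le hz)), d.conj ⟨e, he⟩ z (d.le hz),
    (d.ker z (d.le hz)).2 hz, Matrix.mulVec_zero]

theorem mdl_of_perm {n : ℕ} {W Z : Subgroup G} {σ ψ} (d : PermData n E W Z σ ψ)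
    (hr : σ.range = alternatingGroup (Fin n)) (hZ : E ≤ 𝐍⟮Z⟯) : ∃ ψ, Mdl E W Z ψ (RP n) := by
  classical
  let ψ' : G → Ev n := fun u => if h : u ∈ W then ⟨ψ u, d.even u h⟩ else 0
  have e : ∀ u ∈ W, (ψ' u).1 = ψ u := fun u hu => by simp only [ψ', dif_pos hu]
  have s : Sec W Z ψ' := ⟨d.le, fun u hu v hv => Subtype.ext (by
      rw [Submodule.coe_add, e _ hu, e _ hv, e _ (mul_mem hu hv), d.mul u hu v hv]),
    fun x => by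
      obtain ⟨u, hu, k⟩ := d.surj x.1 x.2
      exact ⟨u, hu, Subtype.ext ((e u hu).trans k)⟩,
    fun u hu => by rw [← d.ker u hu, ← e u hu]; exact Submodule.coe_eq_zero.symm⟩
  have k : ∀ a : E, act W ψ' a = pv (σ a) := fun a => Equiv.ext
    (s.act_eq (d.norm a.2) (hZ a.2) fun u hu => Subtype.ext (funext fun i => by
      rw [e _ (conj_mem_of_mem_normalizer (d.norm a.2) hu), d.conj a u hu, pv_apply, e u hu]))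
  refine ⟨ψ', s, d.norm, hZ, fun a ha => ⟨σ ⟨a, ha⟩, hr ▸ ⟨_, rfl⟩, (k ⟨a, ha⟩).symm⟩, ?_⟩
  rintro _ ⟨g, hg, rfl⟩
  obtain ⟨a, rfl⟩ := hr.ge hg
  exact ⟨a, a.2, k a⟩

variable [Finite G]

theorem Mdl.ker_of_card {X : Type*} [AddCommGroup X] {ψ : G → X} {R : Subgroup (Perm X)}
    (h : Mdl E 𝐖⟮p, E⟯ 𝐙⟮p, E⟯ ψ R) (hc : Nat.card (E ⧸ pCore p E) = Nat.card R) :
    E ⊓ centMod 𝐖⟮p, E⟯ 𝐙⟮p, E⟯ ≤ pCoreOf p E := by
  have h1 : pCoreOf p E ≤ E ⊓ centMod 𝐖⟮p, E⟯ 𝐙⟮p, E⟯ :=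
    le_inf (pCoreOf_le E) ((Q_cent_W E).trans (cent_le_centMod inf_le_left))
  have h2 := card_mul_relIndex (pCoreOf_le (p := p) E)
  have h3 := card_inf_mul_relIndex (centMod 𝐖⟮p, E⟯ 𝐙⟮p, E⟯) E
  rw [h.relIndex_cent, ← hc, inf_comm, ← h2, relIndex, pCoreOf_subgroupOf] at h3
  exact (eq_of_le_of_card_le h1 (Nat.eq_of_mul_eq_mul_right Nat.card_pos h3).le).ge

variable [hp : Fact p.Prime]

theorem blk_of (h : IsBaumannBlock p T E) : Blk p (Bm p T) E := by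
  obtain ⟨h1, h2, h3, h4, ⟨F, _, _, n, hF, ⟨i⟩, a, k⟩ | ⟨h, m, ⟨i⟩, a, k⟩⟩ := h
  · obtain ⟨σ, ψ, d, r⟩ := actsAs_iff.1 a
    have md := mdl_of_nat d r (le_normalizer.trans (norm_Z E))
    refine ⟨h1, h2, h3, md.ker_of_card ((Nat.card_congr i.toEquiv).trans
      (card_map_of_injective mvP_inj).symm), Or.inl ⟨F, inferInstance, inferInstance,
      charP_of_card hF, ⟨ψ, md⟩, k.imp_right fun ⟨k1, k2, k3, k4, k5, k6, k7⟩ => ?_⟩⟩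
    obtain ⟨σ', ψ', d', r'⟩ := actsAs_iff.1 k2
    exact ⟨k1, ⟨ψ', mdl_of_nat d' r' (le_normalizer.trans (norm_W E))⟩, k3, k4, k5,
      by rw [← k5, k6, hF, k1], fun b hb hc => k5 ▸ k7 b hb hc⟩
  · obtain ⟨σ, ψ, d, r⟩ := actsAsPerm_iff.1 a
    obtain ⟨ψ, md⟩ := mdl_of_perm d r (le_normalizer.trans (norm_Z E))
    have h3' : 3 ≤ 2 * m + 1 := by
      by_contra e
      have c := Nat.card_congr i.toEquiv
      rw [alternatingGroup.eq_bot_of_card_le_two (by simp; omega), card_bot] at c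
      have : pCore p E = ⊤ := index_eq_one.1 c
      have : E = ⊥ := h1.symm.trans (pResOf_eq_bot_of_isPGroup (pCore_eq_top_iff.1 this))
      exact h4 (by rw [this]; exact commutator_bot_left _)
    exact ⟨h1, h2, h3, md.ker_of_card ((Nat.card_congr i.toEquiv).trans
      (card_map_of_injective (pv_inj h3')).symm), Or.inr ⟨h, k, _, odd_two_mul_add_one m, h3', ψ, md⟩⟩

theorem comm_eq_of_res (h : pResOf p E = E) (hN : IsPGroup p N) (hn : E ≤ 𝐍⟮N⟯) :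
    ⁅⁅N, E⁆, E⁆ = ⁅N, E⁆ := by
  have := comm_res_res hN hn
  rw [h] at this
  exact le_antisymm (commutator_le_left_of_le_normalizer (right_le_normalizer_commutator _ _)) this

namespace Blk

variable (h : Blk p B E)
include h

omit [Finite G] hp in
theorem nB : B ≤ 𝐍⟮E⟯ := norm_of_comm_eq h.cB

omit [Finite G] hp in
theorem irr (h1 : N ≤ 𝐖⟮p, E⟯) (h2 : E ≤ 𝐍⟮N⟯) (h3 : ¬ N ≤ 𝐙⟮p, E⟯) : 𝐖⟮p, E⟯ ≤ N ⊔ 𝐙⟮p, E⟯ := by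
  obtain ⟨F, _, _, _, ⟨ψ, d⟩, -⟩ | ⟨-, -, n, hn, h3', ψ, d⟩ := h.kind
  exacts [d.irr_lin h1 h2 h3, d.irr_perm hn h3' h1 h2 h3]

omit [Finite G] hp in
theorem four : 4 ≤ (𝐙⟮p, E⟯).relIndex 𝐖⟮p, E⟯ := by
  obtain ⟨F, _, _, _, ⟨ψ, d⟩, -⟩ | ⟨-, -, n, hn, h3, ψ, d⟩ := h.kind
  · rw [d.card, Nat.card_eq_fintype_card, Fintype.card_fun, Fintype.card_fin]
    exact Nat.pow_le_pow_left Fintype.one_lt_card 2
  · rw [d.card]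
    let a : Fin n := ⟨0, by omega⟩
    let b : Fin n := ⟨1, by omega⟩
    let c : Fin n := ⟨2, by omega⟩
    refine le_trans (by simp) (Nat.card_le_card_of_injective
      (fun x : ZMod 2 × ZMod 2 => x.1 • ee a c + x.2 • ee b c) fun x y e => ?_)
    have e1 := congrArg (fun v : Ev n => v.1 a) e
    have e2 := congrArg (fun v : Ev n => v.1 b) e
    simp [ee_apply, a, b, c] at e1 e2
    exact Prod.ext e1 e2

omit [Finite G] hp in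
theorem nt : ¬ 𝐖⟮p, E⟯ ≤ 𝐂⟮E⟯ := fun e => by
  have := h.four
  rw [relIndex_eq_one.2 (le_inf le_rfl e)] at this
  omega

omit [Finite G] in
theorem noo (h0 : A ≤ 𝐍⟮E⟯) (hA : IsElementaryAbelian p A) :
    (centMod 𝐖⟮p, E⟯ 𝐙⟮p, E⟯).relIndex A ≤ (centMod A 𝐙⟮p, E⟯).relIndex 𝐖⟮p, E⟯ := by
  obtain ⟨F, _, _, _, ⟨ψ, d⟩, -⟩ | ⟨rfl, -, n, hn, h3, ψ, d⟩ := h.kind
  · by_cases e : A ≤ centMod 𝐖⟮p, E⟯ 𝐙⟮p, E⟯
    · rw [relIndex_eq_one.2 e, d.relIndex_fix (h0.trans (norm_W E)) (h0.trans (norm_Z E))]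
      exact Nat.pos_of_ne_zero AddSubgroup.index_ne_zero_of_finite
    exact (d.off_lin h0 (h0.trans (norm_W E)) (h0.trans (norm_Z E)) hA e).1
  · exact (d.off_perm hn h3 h0 (h0.trans (norm_W E)) (h0.trans (norm_Z E)) hA).1

theorem UU : ⁅𝐔⟮p, E⟯, E⁆ = 𝐔⟮p, E⟯ :=
  comm_eq_of_res h.res ((isPGroup_pCoreOf E).to_le (W_le_Q E)) (le_normalizer.trans (norm_W E))

omit [Finite G] hp in
theorem U_ne : 𝐔⟮p, E⟯ ≠ ⊥ := fun e => h.nt (le_cent_of_comm_bot e)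

theorem U_nle : ¬ 𝐔⟮p, E⟯ ≤ 𝐂⟮E⟯ := fun e => h.U_ne (h.UU.symm.trans (comm_bot_of_le_cent e))

omit [Finite G] hp in
/-- An `E`-invariant subgroup of `W` not centralized by `E` has commutator `W_E`. -/
theorem comm_eq (h1 : N ≤ 𝐖⟮p, E⟯) (h2 : E ≤ 𝐍⟮N⟯) (h3 : ¬ N ≤ 𝐂⟮E⟯) : ⁅N, E⁆ = 𝐔⟮p, E⟯ :=
  le_antisymm (commutator_mono h1 le_rfl) ((commutator_mono (h.irr h1 h2
    fun e => h3 (e.trans inf_le_right)) le_rfl).trans (commutator_sup_left_le le_rfl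
      ((comm_bot_of_le_cent inf_le_right).le.trans bot_le) (left_le_normalizer_commutator _ _)
      (inf_le_left.trans ((W_cent_W E).trans ((Push.cent_anti ((commutator_le_left_of_le_normalizer
        h2).trans h1)).trans (centralizer_le_normalizer' _))))))

omit [Finite G] hp in
theorem U_le_of (h1 : N ≤ 𝐖⟮p, E⟯) (h2 : E ≤ 𝐍⟮N⟯) (h3 : ¬ N ≤ 𝐂⟮E⟯) : 𝐔⟮p, E⟯ ≤ N :=
  (h.comm_eq h1 h2 h3).ge.trans (commutator_le_left_of_le_normalizer h2)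

theorem W_le_sup : 𝐖⟮p, E⟯ ≤ 𝐔⟮p, E⟯ ⊔ 𝐙⟮p, E⟯ :=
  h.irr (U_le_W E) (le_normalizer.trans (norm_U E)) fun e => h.U_nle (e.trans inf_le_right)

omit [Finite G] hp in
theorem cent_U_of (h1 : K ≤ 𝐍⟮E⟯) (h2 : K ≤ centMod 𝐖⟮p, E⟯ 𝐙⟮p, E⟯) : K ≤ 𝐂⟮𝐔⟮p, E⟯⟯ :=
  le_cent_comm (Core.three_subgroups ((le_centMod.1 h2).2.trans inf_le_right)
    ((le_inf (commutator_le_left_of_le_normalizer h1) ((commutator_mono le_rfl h2).trans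
      (commutator_le_right_of_le_normalizer (le_normalizer_centMod (le_normalizer.trans (norm_W E))
        (le_normalizer.trans (norm_Z E)))))).trans (h.ker.trans (Q_cent_W E))))

theorem centMod_of (h1 : K ≤ 𝐍⟮E⟯) (h2 : K ≤ 𝐂⟮𝐔⟮p, E⟯⟯) : K ≤ centMod 𝐖⟮p, E⟯ 𝐙⟮p, E⟯ :=
  le_centMod.2 ⟨h1.trans (norm_Z E), (commutator_mono h.W_le_sup le_rfl).trans
    (commutator_sup_left_le ((comm_bot_of_le_cent (le_cent_comm h2)).le.trans bot_le)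
      (commutator_le_left_of_le_normalizer (h1.trans (norm_Z E)))
      ((U_le E).trans (le_normalizer.trans (norm_Z E))) le_normalizer)⟩

theorem mem_cent_U (h1 : g ∈ 𝐍⟮E⟯) : g ∈ 𝐂⟮𝐔⟮p, E⟯⟯ ↔ g ∈ centMod 𝐖⟮p, E⟯ 𝐙⟮p, E⟯ :=
  ⟨fun e => zpowers_le.1 (h.centMod_of (zpowers_le.2 h1) (zpowers_le.2 e)),
    fun e => zpowers_le.1 (h.cent_U_of (zpowers_le.2 h1) (zpowers_le.2 e))⟩

theorem kerU : E ⊓ 𝐂⟮𝐔⟮p, E⟯⟯ ≤ pCoreOf p E :=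
  (le_inf inf_le_left (h.centMod_of (inf_le_left.trans le_normalizer) inf_le_right)).trans h.ker

theorem nle_cent : ¬ E ≤ 𝐂⟮𝐔⟮p, E⟯⟯ := fun e => h.U_nle (le_cent_comm e)

theorem B_nle : ¬ B ≤ 𝐂⟮𝐔⟮p, E⟯⟯ := fun e => h.nle_cent (le_of_comm_eq h.cB
  (le_normalizer_centralizer (le_normalizer.trans (norm_U E))) e)

omit hp in
/-- The dichotomy between ordinary and exceptional blocks. -/
theorem exc : pCoreOf p E = 𝐖⟮p, E⟯ ∨ ∃ (F : Type) (_ : Field F) (_ : Fintype F) (_ : CharP F p),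
    (∃ ψ, Mdl E 𝐖⟮p, E⟯ 𝐙⟮p, E⟯ ψ (RL F)) ∧ Exc p F B E := by
  obtain ⟨F, _, _, _, d, e | e⟩ | ⟨-, e, -⟩ := h.kind
  exacts [Or.inl e, Or.inr ⟨F, inferInstance, inferInstance, inferInstance, d, e⟩, Or.inl e]

omit hp in
/-- An abelian `E`-invariant subgroup of `Q` lies in `W` provided that it has exponent `p`. -/
theorem le_W (h1 : N ≤ pCoreOf p E) (h2 : E ≤ 𝐍⟮N⟯) (h3 : N ≤ 𝐂⟮N⟯) : N ≤ 𝐖⟮p, E⟯ := by
  obtain e | ⟨F, _, _, _, -, x⟩ := h.exc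
  · exact h1.trans e.le
  by_contra hn
  obtain ⟨ψ, d⟩ := x.nat
  have k := d.irr_lin h1 h2 hn
  have c : pCoreOf p E ≤ 𝐂⟮pCoreOf p E⟯ := k.trans (sup_le (le_cent_comm (k.trans
    (sup_le h3 (le_cent_comm (h1.trans (Q_cent_W E)))))) (le_cent_comm (Q_cent_W E)))
  have := x.card
  rw [← x.comm, comm_bot_of_le_cent c, card_bot] at this
  exact (Fintype.one_lt_card (α := F)).ne this

/-- `[V, E] = W_E` for suitable elementary abelian `V`. -/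
theorem comm_eq_U {V : Subgroup G} (hV : IsElementaryAbelian p V) (h1 : V ≤ 𝐍⟮E⟯) (h2 : E ≤ 𝐍⟮V⟯)
    (h3 : ¬ V ≤ 𝐂⟮E⟯) : ⁅V, E⁆ = 𝐔⟮p, E⟯ := by
  have a := commutator_le_left_of_le_normalizer h2
  have b := right_le_normalizer_commutator V E
  have c := comm_eq_of_res h.res (isPGroup_of_elemAb hV) h2
  rw [← c]
  exact h.comm_eq (h.le_W (le_pCoreOf (commutator_le_right_of_le_normalizer h1) b
    ((isPGroup_of_elemAb hV).to_le a)) b (elemAb_le_centralizer (elemAb_of_le hV a))) b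
    fun e => h3 (le_cent_of_comm_bot (c.symm.trans (comm_bot_of_le_cent e)))

end Blk

/-- `O_p(G)` normalizes every block. -/
theorem Blk.core_le (h : Blk p B E) (hB : WC p B) : pCore p G ≤ 𝐍⟮E⟯ :=
  le_norm_of_wc hB h.res h.cB isPGroup_pCore le_normalizer_of_normal le_normalizer_of_normal

theorem oz_le_oz_core (hG : 𝐂⟮pCore p G⟯ ≤ pCore p G) (hT : IsSylowIn p T ⊤) :
    OZ p T ≤ OZ p (pCore p G) := fun x hx => by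
  have hO : pCore p G ≤ T := pCoreOf_top.ge.trans hT.pCoreOf_le
  obtain ⟨-, h2, h3⟩ := mem_omegaOneCenter.1 hx
  exact mem_omegaOneCenter.2 ⟨hG (Push.cent_anti hO h2), Push.cent_anti hO h2, h3⟩

theorem comm_V_eq (hG : 𝐂⟮pCore p G⟯ ≤ pCore p G) (hT : IsSylowIn p T ⊤)
    (h : IsBaumannBlock p T E) : ⁅OZ p (pCore p G), E⁆ = 𝐔⟮p, E⟯ := by
  haveI := Transfer.omegaOneCenter_normal (p := p) (pCore p G)
  exact (blk_of h).comm_eq_U (elemAb_omegaOneCenter _) ((omegaOneCenter_le _).trans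
    ((blk_of h).core_le (wc_bm hT))) le_normalizer_of_normal fun e =>
      h.2.2.2.1 (comm_bot_of_le_cent (le_cent_comm ((oz_le_oz_core hG hT).trans e)))

theorem U_le_V (hG : 𝐂⟮pCore p G⟯ ≤ pCore p G) (hT : IsSylowIn p T ⊤)
    (h : IsBaumannBlock p T E) : 𝐔⟮p, E⟯ ≤ OZ p (pCore p G) := by
  haveI := Transfer.omegaOneCenter_normal (p := p) (pCore p G)
  rw [← comm_V_eq hG hT h]; exact commutator_le_left _ _

omit hp in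
theorem ea_U (E : Subgroup G) : IsElementaryAbelian p 𝐔⟮p, E⟯ :=
  elemAb_of_le (elemAb_omegaOneCenter _) (U_le_W E)

theorem Blk.J_nle (h : Blk p (Bm p T) E) (hU : 𝐔⟮p, E⟯ ≤ T) : ¬ Jt p T ≤ 𝐂⟮𝐔⟮p, E⟯⟯ := fun e =>
  h.B_nle (bm_le_cent_of hU (ea_U E).2 (le_cent_comm e))

end Cfsg.Agent.BHS
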