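import Cfsg.Agent.BHS.Lin

/-! Exceptional blocks; the centralizer of `W_E` in the normalizer of a block. -/

namespace Cfsg.Agent.BHS

open Subgroup Cfsg.Agent.LocalEven Cfsg.Agent.Glaub Cfsg.Agent.Push Equiv
open scoped commutatorElement MatrixGroups

variable {G : Type*} [Group G] {p : ℕ} {B E A N K T P W Z X D D₀ : Subgroup G} {g b z : G}

/-- A block relative to the weakly closed Baumann subgroup of the `p`-group `T ≥ W_E`. -/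
structure BT (p : ℕ) (T E : Subgroup G) : Prop extends Blk p (Bm p T) E where
  pg : IsPGroup p T
  wc : WC p (Bm p T)
  le : 𝐔⟮p, E⟯ ≤ T

variable [Finite G] [hp : Fact p.Prime]

theorem bt_of (hG : 𝐂⟮pCore p G⟯ ≤ pCore p G) (hT : IsSylowIn p T ⊤) (h : IsBaumannBlock p T E) :
    BT p T E :=
  ⟨blk_of h, hT.pgrp, wc_bm hT, (U_le_V hG hT h).trans ((omegaOneCenter_le _).trans
    (pCoreOf_top.ge.trans hT.pCoreOf_le))⟩

/-- A Frattini argument producing a `p'`-element that normalizes `B`. -/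
theorem exists_norm_coprime (hB : WC p B) (h0 : D₀ ≤ D) (h2 : B ≤ 𝐍⟮D₀⟯) (h3 : D ≤ 𝐍⟮D₀⟯)
    (h4 : ⁅D, B⁆ ≤ D₀) (hg : g ∈ D) :
    ∃ z ∈ D, z ∈ 𝐍⟮B⟯ ∧ (orderOf z).Coprime p ∧ ∃ k, (g ^ p ^ k)⁻¹ * z ∈ D₀ := by
  have n : g ∈ 𝐍⟮B ⊔ D₀⟯ := mem_normalizer_of_cj_le (by
    rw [cj_sup, cj_eq_of_mem_normalizer (h3 hg)]
    refine sup_le (cj_le_iff'.2 fun b hb => ?_) le_sup_right
    rw [show g * b * g⁻¹ = ⁅g, b⁆ * b by rw [commutatorElement_def]; group]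
    exact mul_mem (mem_sup_right (h4 (commutator_mem_commutator hg hb))) (mem_sup_left hb))
  obtain ⟨y, hy, x, hx, e⟩ := hB.frattini le_sup_left n
  obtain ⟨d, hd, b, hb, rfl⟩ := (mem_sup_iff_of_le_normalizer' h2).1 (sup_comm B D₀ ▸ hy)
  have e' : b * x = d⁻¹ * g := by rw [e]; group
  have m : b * x ∈ D := e' ▸ mul_mem (inv_mem (h0 hd)) hg
  obtain ⟨k, hk⟩ := exists_coprime_pow (p := p) (b * x)
  refine ⟨_, pow_mem m _, pow_mem (mul_mem (le_normalizer hb) hx) _, hk, k, ?_⟩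
  rw [e']
  generalize p ^ k = n
  induction n with
  | zero => simp
  | succ n ih =>
    have := mul_mem (inv_conj_mem_of_mem_normalizer (h3 hg) ih)
      (inv_conj_mem_of_mem_normalizer (h3 hg) (inv_mem hd))
    convert this using 1
    rw [pow_succ, pow_succ]; group

theorem exists_cent_of_coprime (hB : IsPGroup p B) (hz : z ∈ 𝐍⟮B⟯) (hc : (orderOf z).Coprime p)
    (h1 : ⁅B, zpowers z⁆ ≤ K) (h2 : ¬ B ≤ K) : ∃ b ∈ B, b ∉ K ∧ b * z = z * b := by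
  by_contra! hn
  obtain ⟨n, e⟩ := hB.exists_card_eq
  refine h2 ((Core.commutator_sup_centralizer (zpowers z) B (zpowers_le.2 hz) (by
    rw [Nat.card_zpowers, e]; exact hc.pow_right n) (Or.inl inferInstance)).ge.trans
    (sup_le h1 fun b hb => ?_))
  by_contra hb'
  exact hn b hb.1 hb' (hb.2 z (mem_zpowers z)).symm

namespace BT

theorem J_nle (h : BT p T E) : ¬ Jt p T ≤ 𝐂⟮𝐔⟮p, E⟯⟯ := h.toBlk.J_nle h.le

omit [Finite G] hp in
theorem nJ (h : BT p T E) : Jt p T ≤ 𝐍⟮E⟯ := (jt_le_bm T).trans h.nB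

omit [Finite G] hp in
theorem pB (h : BT p T E) : IsPGroup p (Bm p T) := h.wc.pgrp

variable {F : Type} [Field F] [Fintype F] [CharP F p] {ψ ψ' : G → Fin 2 → F}

theorem sl (h : BT p T E) (d : Mdl E 𝐖⟮p, E⟯ 𝐙⟮p, E⟯ ψ (RL F)) : ∃ x ≠ 0,
    ∀ b ∈ Bm p T, ∃ s, mv s x = x ∧ act 𝐖⟮p, E⟯ ψ b = mvP s := by
  obtain ⟨x, x0, -, -, k⟩ := h.line d h.pg h.le h.nJ h.J_nle
  exact ⟨x, x0, fun b hb => k b hb (h.nB hb)⟩

theorem quadW (h : BT p T E) (d : Mdl E 𝐖⟮p, E⟯ 𝐙⟮p, E⟯ ψ (RL F)) :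
    ⁅⁅𝐖⟮p, E⟯, Bm p T⁆, Bm p T⁆ ≤ 𝐙⟮p, E⟯ := by
  obtain ⟨x, x0, k⟩ := h.sl d
  exact d.quad_of (h.nB.trans (norm_W E)) (h.nB.trans (norm_Z E)) x0 k

end BT

theorem norm_Q (E : Subgroup G) : 𝐍⟮E⟯ ≤ 𝐍⟮pCoreOf p E⟯ := normalizer_le_normalizer_pCoreOf E

section exc

variable {F : Type} [Field F] [Fintype F] [CharP F p] {ψ ψ' : G → Fin 2 → F}

omit [Finite G] in
theorem Exc.three_le (x : Exc p F B E) : 3 ≤ Fintype.card F := by
  obtain ⟨n, -, e⟩ := FiniteField.card F p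
  rw [e, ← x.three]; exact Nat.le_self_pow n.ne_zero p

omit [Finite G] hp [Fintype F] [CharP F p] in
theorem Q_le_centMod (d' : Sec (pCoreOf p E) 𝐖⟮p, E⟯ ψ') :
    pCoreOf p E ≤ centMod (pCoreOf p E) 𝐖⟮p, E⟯ := fun a ha =>
  (mem_centMod' (d'.nZ ha)).2 fun u hu => by
    rw [← d'.ker _ (mul_mem (mul_mem (mul_mem ha hu) (inv_mem ha)) (inv_mem hu)),
      d'.mul _ (mul_mem (mul_mem ha hu) (inv_mem ha)) _ (inv_mem hu), d'.mul _ (mul_mem ha hu) _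
      (inv_mem ha), d'.mul _ ha _ hu, d'.inv ha, d'.inv hu]
    abel

omit [CharP F p] in
theorem Blk.scalarQ (h : Blk p B E) (x : Exc p F B E) (d' : Mdl E (pCoreOf p E) 𝐖⟮p, E⟯ ψ' (RL F))
    (h3 : 3 ≤ Fintype.card F) (h1 : g ∈ 𝐍⟮E⟯) (h2 : g ∈ 𝐂⟮𝐔⟮p, E⟯⟯) :
    ∃ c : F, ∀ v, act (pCoreOf p E) ψ' g v = c • v :=
  d'.scalar h3 (norm_Q E h1) (norm_W E h1) fun e he => Q_le_centMod d'.toSec (h.kerU (mem_inf.2
    ⟨mul_mem (conj_mem_of_mem_normalizer h1 he) (inv_mem he), by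
      rw [commutatorElement_def, mul_assoc, mul_assoc, ← mul_assoc e]
      exact mul_mem h2 (conj_mem_of_mem_normalizer (le_normalizer_centralizer
        (le_normalizer.trans (norm_U E)) he) (inv_mem h2))⟩))

theorem BT.linQ (h : BT p T E) (d : Mdl E 𝐖⟮p, E⟯ 𝐙⟮p, E⟯ ψ (RL F)) (x : Exc p F (Bm p T) E)
    (d' : Mdl E (pCoreOf p E) 𝐖⟮p, E⟯ ψ' (RL F)) (hb : b ∈ Bm p T) (c : F) (v : Fin 2 → F) :
    act (pCoreOf p E) ψ' b (c • v) = c • act (pCoreOf p E) ψ' b v := by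
  have n := h.nB hb
  by_cases h3 : Fintype.card F ≤ 3
  · exact smul_of_card_le h3 (AddMonoidHom.mk' _ (d'.act_add (norm_Q E n) (norm_W E n))) c v
  obtain ⟨y, -, k⟩ := h.sl d
  obtain ⟨s, -, hs⟩ := k b hb
  obtain ⟨e, he, e1⟩ := d.onto_lin (g := s) (by rw [comm_eq_top (by omega)]; trivial)
  have n' := mul_mem (inv_mem (le_normalizer he)) n
  obtain ⟨r, hr⟩ := h.scalarQ x d' x.three_le n' ((h.mem_cent_U n').2 ((d.act_eq_iff (d.nW he)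
    (d.nZ' he) (norm_W E n) (norm_Z E n)).1 (e1.trans hs.symm)))
  obtain ⟨s', -, e2⟩ := d'.mem_lin he
  rw [show b = e * (e⁻¹ * b) by group, d'.act_mul (d'.nW he) (d'.nZ' he) (norm_Q E n') (norm_W E n'),
    Perm.mul_apply, Perm.mul_apply, hr, hr, e2, mvP_apply, mvP_apply, smul_comm, mv_smul]

theorem BT.quadQ (h : BT p T E) (d : Mdl E 𝐖⟮p, E⟯ 𝐙⟮p, E⟯ ψ (RL F)) (x : Exc p F (Bm p T) E) :
    ⁅⁅pCoreOf p E, Bm p T⁆, Bm p T⁆ ≤ 𝐖⟮p, E⟯ := by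
  obtain ⟨ψ', d'⟩ := x.nat
  exact d'.quad_of_lin h.pB (h.nB.trans (norm_Q E)) (h.nB.trans (norm_W E))
    fun a ha => h.linQ d x d' ha

omit [Finite G] hp in
theorem comm_comm_sup_le {Y : Subgroup G} (hX : P ≤ 𝐍⟮X⟯) (hY : P ≤ 𝐍⟮Y⟯) (hZ : P ≤ 𝐍⟮Z⟯)
    (h1 : ⁅X ⊔ Y, X ⊔ Y⁆ ≤ Z) (h0 : Z ≤ X ⊔ Y) (h2 : ⁅⁅X, P⁆, P⁆ ≤ Z) (h3 : ⁅⁅Y, P⁆, P⁆ ≤ Z) :
    ⁅⁅X ⊔ Y, P⁆, P⁆ ≤ Z := by
  have n : X ⊔ Y ≤ 𝐍⟮Z⟯ := le_normalizer_of_commutator_le ((commutator_comm _ _).le.trans h1) h0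
  have nP := le_normalizer_sup hX hY
  have a : Z ≤ (X ⊔ Y) ⊓ centMod P Z := le_inf h0 (le_centMod.2 ⟨le_normalizer,
    commutator_le_right_of_le_normalizer hZ⟩)
  have nM : X ⊔ Y ≤ 𝐍⟮(X ⊔ Y) ⊓ centMod P Z⟯ :=
    le_normalizer_of_commutator_le ((commutator_comm _ _).le.trans (h1.trans a)) inf_le_left
  have k : ∀ V ≤ X ⊔ Y, P ≤ 𝐍⟮V⟯ → ⁅⁅V, P⁆, P⁆ ≤ Z → ⁅V, P⁆ ≤ (X ⊔ Y) ⊓ centMod P Z :=
    fun V v1 v2 v3 => le_inf ((commutator_le_left_of_le_normalizer v2).trans v1) (le_centMod.2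
      ⟨((commutator_le_left_of_le_normalizer v2).trans v1).trans n, (commutator_comm _ _).le.trans v3⟩)
  have := commutator_sup_left_le (k X le_sup_left hX h2) (k Y le_sup_right hY h3)
    (le_sup_left.trans nM) (le_sup_right.trans nM)
  rw [commutator_comm]
  exact (le_centMod.1 (this.trans inf_le_right)).2

/-- No element of `B` outside `C(W)` stabilizes a complement to `W / Z` in `Q / Z`. -/
theorem BT.split (h : BT p T E) (d : Mdl E 𝐖⟮p, E⟯ 𝐙⟮p, E⟯ ψ (RL F)) (x : Exc p F (Bm p T) E)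
    (h1 : X ≤ pCoreOf p E) (h2 : pCoreOf p E ≤ X ⊔ 𝐖⟮p, E⟯) (h3 : X ⊓ 𝐖⟮p, E⟯ ≤ 𝐙⟮p, E⟯)
    (hb : b ∈ Bm p T) (hn : b ∈ 𝐍⟮X⟯) : b ∈ 𝐂⟮𝐔⟮p, E⟯⟯ := by
  by_contra hc
  have z := zpowers_le.2 hb
  have e : X ⊔ 𝐖⟮p, E⟯ = pCoreOf p E := le_antisymm (sup_le h1 (W_le_Q E)) h2
  refine x.quad b hb (fun k => hc (Push.cent_anti (U_le_W E) k)) ?_
  have k := comm_comm_sup_le (zpowers_le.2 hn) (z.trans (h.nB.trans (norm_W E)))
    (z.trans (h.nB.trans (norm_Z E))) (by rw [e, x.comm]) (inf_le_left.trans le_sup_right)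
    (le_trans (le_inf ((commutator_mono (commutator_le_left_of_le_normalizer (zpowers_le.2 hn))
      le_rfl).trans (commutator_le_left_of_le_normalizer (zpowers_le.2 hn)))
      ((commutator_mono (commutator_mono h1 z) z).trans (h.quadQ d x))) h3)
    ((commutator_mono (commutator_mono le_rfl z) z).trans (h.quadW d))
  rwa [e] at k

omit [Finite G] hp [CharP F p] in
theorem Exc.comm_mem (x : Exc p F B E) {u v : G} (hu : u ∈ pCoreOf p E) (hv : v ∈ pCoreOf p E) :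
    ⁅u, v⁆ ∈ 𝐙⟮p, E⟯ := x.comm.le (commutator_mem_commutator hu hv)

/-- The centralizer of `W_E` in `N(E)` centralizes `Q / W`. -/
theorem BT.lemX (h : BT p T E) (d : Mdl E 𝐖⟮p, E⟯ 𝐙⟮p, E⟯ ψ (RL F)) (x : Exc p F (Bm p T) E) :
    𝐍⟮E⟯ ⊓ 𝐂⟮𝐔⟮p, E⟯⟯ ≤ centMod (pCoreOf p E) 𝐖⟮p, E⟯ := by
  obtain ⟨ψ', d'⟩ := x.nat
  intro g hg
  by_contra hn
  set C := 𝐍⟮E⟯ ⊓ 𝐂⟮𝐔⟮p, E⟯⟯
  have sc : ∀ g ∈ C, ∃ c : F, ∀ v, act (pCoreOf p E) ψ' g v = c • v := fun g hg =>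
    h.scalarQ x d' x.three_le hg.1 hg.2
  have one : ∀ g ∈ C, g ∈ centMod (pCoreOf p E) 𝐖⟮p, E⟯ ↔ act (pCoreOf p E) ψ' g = 1 :=
    fun g hg => (d'.act_eq_one (norm_Q E hg.1) (norm_W E hg.1)).symm
  have nC : 𝐍⟮E⟯ ≤ 𝐍⟮C⟯ := le_normalizer_inf le_normalizer (le_normalizer_centralizer (norm_U E))
  have nD : 𝐍⟮E⟯ ≤ 𝐍⟮C ⊓ centMod (pCoreOf p E) 𝐖⟮p, E⟯⟯ :=
    le_normalizer_inf nC (le_normalizer_centMod (norm_Q E) (norm_W E))
  obtain ⟨z, hz, z1, z2, k, z3⟩ := exists_norm_coprime h.wc inf_le_left (h.nB.trans nD)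
    (inf_le_left.trans nD) (commutator_le.2 fun c hc b hb => by
      have m : ⁅c, b⁆ ∈ C := commutator_le_left_of_le_normalizer (h.nB.trans nC)
        (commutator_mem_commutator hc hb)
      have n := h.nB hb
      refine mem_inf.2 ⟨m, (one _ m).2 ?_⟩
      obtain ⟨r, hr⟩ := sc c hc
      rw [commutatorElement_def, d'.act_mul (norm_Q E (mul_mem (mul_mem hc.1 n) (inv_mem hc.1)))
        (norm_W E (mul_mem (mul_mem hc.1 n) (inv_mem hc.1))) (norm_Q E (inv_mem n))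
        (norm_W E (inv_mem n)), d'.act_conj (norm_Q E hc.1) (norm_W E hc.1) (norm_Q E n)
        (norm_W E n), d'.act_inv (norm_Q E n) (norm_W E n), mul_inv_eq_one, mul_inv_eq_iff_eq_mul]
      exact Equiv.ext fun v => by rw [Perm.mul_apply, Perm.mul_apply, hr, hr, h.linQ d x d' hb])
    hg
  obtain ⟨r, hr⟩ := sc z hz
  have r1 : r - 1 ≠ 0 := fun r1 => by
    have z4 : z ∈ centMod (pCoreOf p E) 𝐖⟮p, E⟯ := (one z hz).2 (Equiv.ext fun v => by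
      rw [hr, sub_eq_zero.1 r1, one_smul]; rfl)
    have e : g ^ p ^ k ∈ centMod (pCoreOf p E) 𝐖⟮p, E⟯ := by
      simpa using mul_mem z4 (inv_mem z3.2)
    obtain ⟨r, hr⟩ := sc g hg
    have a : ∀ n : ℕ, ∀ v, (act (pCoreOf p E) ψ' g ^ n) v = r ^ n • v := fun n v => by
      induction n with
      | zero => simp
      | succ n ih => rw [pow_succ', Perm.mul_apply, ih, hr, smul_smul, pow_succ']
    have := a (p ^ k) e0
    rw [← d'.act_pow (norm_Q E hg.1) (norm_W E hg.1), (one _ (pow_mem hg _)).1 e] at this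
    have r1 : r ^ p ^ k = 1 := by simpa using (congrFun this 0).symm
    have r2 : (r - 1) ^ p ^ k = 0 := by rw [sub_pow_char_pow, r1, one_pow, sub_self]
    refine hn ((one g hg).2 (Equiv.ext fun v => ?_))
    rw [hr, sub_eq_zero.1 (pow_eq_zero_iff (pow_ne_zero _ hp.out.ne_zero) |>.1 r2), one_smul]; rfl
  obtain ⟨b, hb, b1, b2⟩ := exists_cent_of_coprime h.pB z1 z2 (K := 𝐂⟮𝐔⟮p, E⟯⟯)
    ((commutator_mono le_rfl (zpowers_le.2 hz)).trans ((commutator_le_right_of_le_normalizer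
      (h.nB.trans nC)).trans inf_le_right)) h.B_nle
  have mq : ∀ u ∈ pCoreOf p E, ⁅z, u⁆ ∈ pCoreOf p E := fun u hu =>
    mul_mem (conj_mem_of_mem_normalizer (norm_Q E hz.1) hu) (inv_mem hu)
  have nz : pCoreOf p E ≤ 𝐍⟮𝐙⟮p, E⟯⟯ := (pCoreOf_le E).trans (le_normalizer.trans (norm_Z E))
  have ev : ∀ u ∈ pCoreOf p E, ψ' ⁅z, u⁆ = (r - 1) • ψ' u := fun u hu => by
    rw [commutatorElement_def, d'.comm (norm_Q E hz.1) (norm_W E hz.1) hu, hr, sub_smul, one_smul]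
  let X : Subgroup G :=
    { carrier := {y | ∃ u ∈ pCoreOf p E, ⁅z, u⁆⁻¹ * y ∈ 𝐙⟮p, E⟯}
      mul_mem' := by
        rintro y w ⟨u, hu, k1⟩ ⟨v, hv, k2⟩
        refine ⟨u * v, mul_mem hu hv, ?_⟩
        have := mul_mem (inv_conj_mem_of_mem_normalizer (nz (mq v hv))
          (mul_mem (inv_mem (x.comm_mem hu (mq v hv))) k1)) k2
        convert this using 1
        simp only [commutatorElement_def]; group
      one_mem' := ⟨1, one_mem _, by simp⟩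
      inv_mem' := by
        rintro y ⟨u, hu, k1⟩
        refine ⟨u⁻¹, inv_mem hu, ?_⟩
        have := mul_mem (x.comm_mem (inv_mem hu) (mq u hu))
          (conj_mem_of_mem_normalizer (nz (mq u hu)) (inv_mem k1))
        convert this using 1
        simp only [commutatorElement_def]; group }
  have xq : X ≤ pCoreOf p E := by
    rintro y ⟨u, hu, k1⟩
    exact mul_inv_cancel_left ⁅z, u⁆ y ▸ mul_mem (mq u hu) (W_le_Q E k1.1)
  refine b1 (h.split d x xq (d'.le_sup_of xq fun v => ?_) ?_ hb (mem_normalizer_of_cj_le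
    (cj_le_iff'.2 ?_)))
  · obtain ⟨u, hu, e⟩ := d'.surj ((r - 1)⁻¹ • v)
    exact ⟨_, ⟨u, hu, by rw [inv_mul_cancel]; exact one_mem _⟩, by rw [ev u hu, e, smul_smul, mul_inv_cancel₀ r1, one_smul]⟩
  · rintro y ⟨⟨u, hu, k1⟩, k2⟩
    have k3 : ⁅z, u⁆ ∈ 𝐖⟮p, E⟯ := by
      have := mul_mem (show y ∈ 𝐖⟮p, E⟯ from k2) (inv_mem (mem_inf.1 k1).1)
      rwa [mul_inv_rev, inv_inv, mul_inv_cancel_left] at this
    rw [← d'.ker _ (mq u hu), ev u hu, smul_eq_zero, or_iff_right r1, d'.ker u hu] at k3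
    exact mul_inv_cancel_left ⁅z, u⁆ y ▸
      mul_mem ((mem_centMod' (norm_Z E hz.1)).1 ((h.mem_cent_U hz.1).1 hz.2) u k3) k1
  · rintro y ⟨u, hu, k1⟩
    refine ⟨_, conj_mem_of_mem_normalizer (norm_Q E (h.nB hb)) hu, ?_⟩
    have := conj_mem_of_mem_normalizer (norm_Z E (h.nB hb)) k1
    convert this using 1
    have e : z = b * z * b⁻¹ := by rw [b2]; group
    conv_lhs => rw [e]
    simp only [commutatorElement_def]; group

omit [Finite G] hp [CharP F p] in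
theorem Exc.cent_Z (x : Exc p F B E) (h : ⁅pCoreOf p E, K⁆ ≤ 𝐖⟮p, E⟯) : 𝐙⟮p, E⟯ ≤ 𝐂⟮K⟯ :=
  x.comm.ge.trans (Core.three_subgroups (h.trans (le_cent_comm (Q_cent_W E)))
    (h.trans (le_cent_comm (Q_cent_W E))))

end exc

omit [Finite G] hp in
theorem Blk.U_eq (h : Blk p B E) (e : pCoreOf p E = 𝐖⟮p, E⟯) : 𝐔⟮p, E⟯ = pCoreOf p E := by
  rw [← e, h.cQ]

/-- `O^p(C_{N(E)}(W_E))` centralizes `E`. -/
theorem BT.lemY (h : BT p T E) (h1 : K ≤ 𝐍⟮E⟯) (h2 : K ≤ 𝐂⟮𝐔⟮p, E⟯⟯) : pResOf p K ≤ 𝐂⟮E⟯ := by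
  have r := pResOf_le (p := p) K
  refine pResOf_le_centralizer_of_section (isPGroup_pCoreOf E) ?_ ((commutator_mono le_rfl r).trans
    ((le_inf (commutator_le_left_of_le_normalizer h1) ((commutator_mono le_rfl h2).trans
      (commutator_le_right_of_le_normalizer (le_normalizer_centralizer
        (le_normalizer.trans (norm_U E)))))).trans h.kerU))
  obtain e | ⟨F, _, _, _, ⟨ψ, d⟩, x⟩ := h.exc
  · rw [← h.U_eq e]; exact r.trans h2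
  have k := (le_centMod.1 ((le_inf h1 h2).trans (h.lemX d x))).2
  have w : IsPGroup p 𝐖⟮p, E⟯ := (isPGroup_pCoreOf E).to_le (W_le_Q E)
  exact pResOf_le_centralizer_of_section w (pResOf_le_centralizer_of_section (w.to_le inf_le_left)
    (r.trans (le_cent_comm (x.cent_Z k))) ((commutator_mono le_rfl r).trans
      (le_centMod.1 (h.centMod_of h1 h2)).2)) ((commutator_mono le_rfl r).trans k)

end Cfsg.Agent.BHS
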