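import Cfsg.Agent.Classical.SLBasic
import Cfsg.Agent.Comp2.Component
import Cfsg.Agent.LocalEven.Resid

/-! The block `SL(m, F)` in dimension `m + 1` and the centralizer of `diag(-1, …, -1, 1)`. -/

namespace Cfsg.Agent.GLBlk

open Matrix Subgroup Cfsg.Agent.LocalEven
open scoped MatrixGroups commutatorElement

variable {F : Type*} [Field F] {m : ℕ}

/-- The block diagonal matrix with blocks `A` and `c`. -/
def ex (A : Matrix (Fin m) (Fin m) F) (c : F) : Matrix (Fin (m + 1)) (Fin (m + 1)) F :=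
  reindex finSumFinEquiv finSumFinEquiv (fromBlocks A 0 0 (diagonal fun _ : Fin 1 => c))

theorem ex_mul (A B : Matrix (Fin m) (Fin m) F) (c d : F) : ex A c * ex B d = ex (A * B) (c * d) := by
  simp [ex, fromBlocks_multiply]

theorem ex_one : ex (1 : Matrix (Fin m) (Fin m) F) 1 = 1 := by simp [ex]

theorem det_ex (A : Matrix (Fin m) (Fin m) F) (c : F) : (ex A c).det = A.det * c := by
  simp [ex]

theorem symm_last : finSumFinEquiv.symm (Fin.last m) = Sum.inr (0 : Fin 1) :=
  finSumFinEquiv_symm_apply_natAdd (0 : Fin 1)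

theorem symm_cs (i : Fin m) : finSumFinEquiv.symm i.castSucc = Sum.inl i :=
  finSumFinEquiv_symm_apply_castAdd i

@[simp] theorem ex_cc (A : Matrix (Fin m) (Fin m) F) (c : F) (i j : Fin m) :
    ex A c i.castSucc j.castSucc = A i j := by simp [ex, symm_cs]

@[simp] theorem ex_cl (A : Matrix (Fin m) (Fin m) F) (c : F) (i : Fin m) :
    ex A c i.castSucc (Fin.last m) = 0 := by simp [ex, symm_cs, symm_last]

@[simp] theorem ex_lc (A : Matrix (Fin m) (Fin m) F) (c : F) (i : Fin m) :
    ex A c (Fin.last m) i.castSucc = 0 := by simp [ex, symm_cs, symm_last]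

@[simp] theorem ex_ll (A : Matrix (Fin m) (Fin m) F) (c : F) :
    ex A c (Fin.last m) (Fin.last m) = c := by simp [ex, symm_last]

theorem ex_inj {A B : Matrix (Fin m) (Fin m) F} {c d : F} (h : ex A c = ex B d) : A = B ∧ c = d :=
  ⟨Matrix.ext fun i j => by rw [← ex_cc A c, h, ex_cc], by rw [← ex_ll A c, h, ex_ll]⟩

theorem eq_ex {g : Matrix (Fin (m + 1)) (Fin (m + 1)) F} (h1 : ∀ i : Fin m, g i.castSucc (Fin.last m) = 0)
    (h2 : ∀ i : Fin m, g (Fin.last m) i.castSucc = 0) : ∃ A c, g = ex A c :=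
  ⟨of fun i j => g i.castSucc j.castSucc, g (Fin.last m) (Fin.last m), Matrix.ext fun i j => by
    induction i using Fin.lastCases <;> induction j using Fin.lastCases <;> simp [h1, h2]⟩

theorem diag_eq : (diagonal fun i : Fin (m + 1) => if (i : ℕ) + 1 = m + 1 then (1 : F) else -1) =
    ex (-1) 1 := Matrix.ext fun i j => by
  induction i using Fin.lastCases <;> induction j using Fin.lastCases <;>
    simp [diagonal_apply, one_apply, Fin.ext_iff, Fin.ne_of_lt, (Fin.is_lt _).ne, (Fin.is_lt _).ne']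
  split_ifs <;> simp

theorem of_comm_t (h2 : (2 : F) ≠ 0) {g : Matrix (Fin (m + 1)) (Fin (m + 1)) F}
    (h : ex (-1) 1 * g = g * ex (-1) 1) : ∃ A c, g = ex A c := by
  rw [← diag_eq] at h
  refine eq_ex (fun i => ?_) fun i => ?_
  · have := congrFun (congrFun h i.castSucc) (Fin.last m)
    simp only [diagonal_mul, mul_diagonal, Fin.val_last, Fin.val_castSucc, Nat.add_right_cancel_iff,
      i.is_lt.ne, if_true, if_false] at this
    exact (mul_eq_zero.1 (by linear_combination -this)).resolve_left h2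
  · have := congrFun (congrFun h (Fin.last m)) i.castSucc
    simp only [diagonal_mul, mul_diagonal, Fin.val_last, Fin.val_castSucc, Nat.add_right_cancel_iff,
      i.is_lt.ne, if_true, if_false] at this
    exact (mul_eq_zero.1 (by linear_combination this)).resolve_left h2

theorem conj_ex (h2 : (2 : F) ≠ 0) {g h : Matrix (Fin (m + 1)) (Fin (m + 1)) F} (e : g * h = 1)
    (hg : ex (-1) 1 * g = g * ex (-1) 1) (hh : ex (-1) 1 * h = h * ex (-1) 1) (X : SL(m, F)) :
    ∃ Y : SL(m, F), ex Y.1 1 = g * ex X.1 1 * h := by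
  obtain ⟨A, c, rfl⟩ := of_comm_t h2 hg
  obtain ⟨B, d, rfl⟩ := of_comm_t h2 hh
  rw [ex_mul, ← ex_one] at e
  refine ⟨⟨A * X.1 * B, ?_⟩, by rw [ex_mul, ex_mul, mul_one, (ex_inj e).2]⟩
  rw [det_mul, det_mul, X.2, mul_one, ← det_mul, (ex_inj e).1, det_one]

/-- The block embedding. -/
def emb (m : ℕ) (F : Type*) [Field F] : SL(m, F) →* SL(m + 1, F) :=
  MonoidHom.mk' (fun X => ⟨ex X.1 1, by rw [det_ex, X.2, mul_one]⟩) fun X Y => Subtype.ext (by
    change ex (X.1 * Y.1) 1 = ex X.1 1 * ex Y.1 1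
    rw [ex_mul, mul_one])

theorem emb_inj : Function.Injective (emb m F) := fun _ _ e =>
  Subtype.ext (ex_inj (congrArg Subtype.val e)).1

theorem comm_t (X : Matrix (Fin m) (Fin m) F) (c : F) : ex X c * ex (-1) 1 = ex (-1) 1 * ex X c := by
  rw [ex_mul, ex_mul]; simp

theorem qs_sl [Fintype F] (h : 3 ≤ m ∨ m = 2 ∧ 4 ≤ Fintype.card F) : IsQuasisimple SL(m, F) := by
  rcases h with h | ⟨rfl, h⟩
  · exact ⟨⟨Classical.SLBasic.commutator_SL_eq_top (by simpa using h)⟩,
      Classical.SLBasic.isSimpleGroup_PSL (by simpa using h)⟩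
  classical
  obtain ⟨a, ha⟩ : ∃ a : F, a ∉ ({0, 1, -1} : Finset F) := by
    by_contra! k
    have := (Finset.card_le_card fun a (_ : a ∈ Finset.univ) => k a).trans Finset.card_le_three
    rw [Finset.card_univ] at this
    omega
  simp only [Finset.mem_insert, Finset.mem_singleton, not_or] at ha
  exact ⟨⟨SL2.commutator_eq_top ha.1 fun e => (sq_eq_one_iff.1 e).elim ha.2.1 ha.2.2⟩,
    Matrix.ProjectiveSpecialLinearGroup.rank_two_simple (by rw [Nat.card_eq_fintype_card]; omega)⟩

theorem of_comm_all (h2 : (2 : F) ≠ 0) (hm : Even m) {g : Matrix (Fin (m + 1)) (Fin (m + 1)) F}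
    (h : ∀ X : SL(m, F), ex X.1 1 * g = g * ex X.1 1) : ∃ a c : F, g = ex (a • 1) c := by
  obtain ⟨A, c, rfl⟩ := of_comm_t h2 (h ⟨-1, by rw [det_neg, det_one, Fintype.card_fin, hm.neg_one_pow, mul_one]⟩)
  obtain ⟨a, e⟩ := mem_range_scalar_of_commute_transvectionStruct (M := A) fun t => by
    have := h ⟨t.toMatrix, t.det⟩
    rw [ex_mul, ex_mul] at this
    exact (ex_inj this).1
  exact ⟨a, c, by rw [← e, scalar_apply, smul_one_eq_diagonal]⟩

/-- A criterion for a standard subgroup. -/
theorem std_of {G : Type*} [Group G] [Finite G] {t : G} {L : Subgroup G} (ht : orderOf t = 2)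
    (hq : IsQuasisimple L) (h1 : L ≤ centralizer {t}) (h2 : centralizer {t} ≤ normalizer (L : Set G))
    (h3 : centralizer (L : Set G) ≤ centralizer (centralizer (L : Set G) : Set G))
    (h4 : ∀ s ∈ centralizer (L : Set G), orderOf s = 2 → s = t) :
    IsStandardSubgroup ((layer (centralizer {t} : Subgroup G)).map (centralizer {t}).subtype) := by
  have nc : ∀ K : Subgroup G, IsQuasisimple K → ¬ K ≤ centralizer (L : Set G) := fun K a b =>
    Comp2.quasisimple_not_le_centralizer a (b.trans (h3.trans (centralizer_le b)))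
  have c : IsComponent (L.subgroupOf (centralizer {t})) :=
    ⟨((normal_subgroupOf_iff_le_normalizer h1).2 h2).isSubnormal,
      (Comp2.quasisimple_subgroupOf_iff h1).2 hq⟩
  have e : (layer (centralizer {t} : Subgroup G)).map (centralizer {t}).subtype = L :=
    le_antisymm (Comp2.layer_map_subtype_le_iff.2 fun K a b => by_contra fun k =>
      nc K ((Comp2.quasisimple_subgroupOf_iff a).1 b.2) (LocalEven.commutator_eq_bot_iff.1
        (Comp2.component_in_commutator_eq_bot_of_ne a h1 b c fun e => k e.le)))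
      (Comp2.le_layer_map_subtype h1 c)
  have m : t ∈ centralizer (L : Set G) := fun x hx => (mem_centralizer_singleton.1 (h1 hx)).symm
  have n : ∀ g, g * t * g⁻¹ ∈ centralizer (L : Set G) → g ∈ normalizer (L : Set G) := fun g hg =>
    h2 (mem_centralizer_singleton.2 (by
      rw [← mul_inv_eq_iff_eq_mul.1 (h4 _ hg (by rw [← ht]; exact (MulAut.conj g).orderOf_eq t))]))
  have := Fact.mk Nat.prime_two
  rw [e]
  refine ⟨hq, ⟨even_iff_two_dvd.2 (dvd_card_of_mem m ht), fun g hg => ?_⟩,
    fun g _ k => nc _ ((Comp2.quasisimple_map_iff_of_injective _ (MulAut.conj g).injective).2 hq)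
      (LocalEven.commutator_eq_bot_iff.1 ((commutator_comm _ _).trans k)),
    le_antisymm (normalizer_le_normalizer_centralizer L) fun g hg =>
      n g (conj_mem_of_mem_normalizer hg m)⟩
  rw [← Nat.not_even_iff_odd, even_iff_two_dvd]
  intro k
  obtain ⟨s, ⟨s1, u, hu, rfl⟩, s2⟩ := exists_mem_orderOf_eq k
  rw [h4 u hu (((MulAut.conj g).orderOf_eq u).symm.trans s2)] at s1
  exact hg (normalizer_le_normalizer_centralizer L (n g s1))

end Cfsg.Agent.GLBlk
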