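import Cfsg.Agent.BHS.Map

/-! Blocks in groups of characteristic `p`; the central involution in odd characteristic. -/

namespace Cfsg.Agent.BHS

open Subgroup Cfsg.Agent.LocalEven Cfsg.Agent.Glaub Cfsg.Agent.Push Equiv
open scoped commutatorElement MatrixGroups

variable {G : Type*} [Group G] {p : ℕ} {B E A N K T P W Z X D R : Subgroup G} {g t : G}
  [Finite G] [hp : Fact p.Prime]

theorem Sec.exists_fix' {X : Type*} [AddCommGroup X] {ψ : G → X} (h : Sec W Z ψ)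
    (hW : IsPGroup p W) (hn : ¬ W ≤ Z) (hP : IsPGroup p P) (h1 : P ≤ 𝐍⟮W⟯) (h2 : P ≤ 𝐍⟮Z⟯) :
    ¬ W ⊓ centMod P Z ≤ Z := by
  haveI : Finite X := Finite.of_surjective (fun u : W => ψ u) fun x => by
    obtain ⟨u, hu, e⟩ := h.surj x; exact ⟨⟨u, hu⟩, e⟩
  obtain ⟨x, x0, k⟩ := h.exists_fix hP h1 h2 (by
    obtain ⟨n, e⟩ := hW.index (Z.subgroupOf W)
    rw [← h.card, relIndex, e]
    refine dvd_pow_self p ?_
    rintro rfl
    exact hn (relIndex_eq_one.1 e))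
  obtain ⟨u, hu, rfl⟩ := h.surj x
  exact fun e => x0 ((h.ker u hu).2 (e (mem_inf.2 ⟨hu, (h.mem_centMod h1 h2 hu).2 k⟩)))

omit [Finite G] hp in
theorem Blk.sec (h : Blk p B E) : ∃ (X : Type) (_ : AddCommGroup X) (ψ : G → X)
    (R : Subgroup (Perm X)), Mdl E 𝐖⟮p, E⟯ 𝐙⟮p, E⟯ ψ R := by
  obtain ⟨F, _, _, _, ⟨ψ, d⟩, -⟩ | ⟨-, -, n, -, -, ψ, d⟩ := h.kind
  exacts [⟨_, _, ψ, _, d⟩, ⟨_, _, ψ, _, d⟩]

omit [Finite G] hp in
theorem pg_W (E : Subgroup G) : IsPGroup p 𝐖⟮p, E⟯ := (isPGroup_pCoreOf E).to_le (W_le_Q E)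

omit [Finite G] hp in
theorem pg_U (E : Subgroup G) : IsPGroup p ↥𝐔⟮p, E⟯ := (pg_W E).to_le (U_le_W E)

theorem Blk.exists_fix (h : Blk p B E) (hP : IsPGroup p P) (h1 : P ≤ 𝐍⟮E⟯) :
    ¬ 𝐖⟮p, E⟯ ⊓ centMod P 𝐙⟮p, E⟯ ≤ 𝐙⟮p, E⟯ := by
  obtain ⟨X, _, ψ, R, d⟩ := h.sec
  exact d.exists_fix' (pg_W E) (fun e => h.nt (e.trans inf_le_right)) hP (h1.trans (norm_W E))
    (h1.trans (norm_Z E))

theorem Blk.cent_of_pgrp (h : Blk p B E) (hP : IsPGroup p P) (h1 : P ≤ 𝐍⟮E⟯) (h2 : E ≤ 𝐍⟮P⟯) :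
    P ≤ 𝐂⟮𝐔⟮p, E⟯⟯ := by
  have n := le_normalizer.trans (norm_Z (p := p) E)
  have := (h.irr inf_le_left (le_normalizer_inf (le_normalizer.trans (norm_W E))
    (le_normalizer_centMod h2 n)) (h.exists_fix hP h1)).trans (sup_le inf_le_right (Z_le_centMod h1))
  exact h.cent_U_of h1 (le_centMod.2 ⟨h1.trans (norm_Z E), by
    rw [commutator_comm]; exact (le_centMod.1 this).2⟩)

namespace BT

variable (h : BT p T E)
include h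

theorem le_norm (hP : IsPGroup p P) (h1 : Bm p T ≤ 𝐍⟮P⟯) (h2 : E ≤ 𝐍⟮P⟯) : P ≤ 𝐍⟮E⟯ :=
  le_norm_of_wc h.wc h.res h.cB hP h1 h2

theorem core_le : pCore p G ≤ 𝐍⟮E⟯ := h.toBlk.core_le h.wc

theorem core_cent : pCore p G ≤ 𝐂⟮𝐔⟮p, E⟯⟯ :=
  h.cent_of_pgrp isPGroup_pCore h.core_le le_normalizer_of_normal

theorem comm_core : ⁅pCore p G, E⁆ ≤ pCoreOf p E :=
  (le_inf (commutator_le_left _ _) (commutator_le_right_of_le_normalizer h.core_le)).trans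
    (pCore_inf_le E)

theorem U_le_V (hG : 𝐂⟮pCore p G⟯ ≤ pCore p G) : 𝐔⟮p, E⟯ ≤ OZ p (pCore p G) := fun u hu =>
  mem_omegaOneCenter.2 ⟨hG (le_cent_comm h.core_cent hu), le_cent_comm h.core_cent hu,
    (ea_U E).2 u hu⟩

theorem comm_V (hG : 𝐂⟮pCore p G⟯ ≤ pCore p G) : ⁅OZ p (pCore p G), E⁆ = 𝐔⟮p, E⟯ := by
  haveI := Transfer.omegaOneCenter_normal (p := p) (pCore p G)
  exact h.comm_eq_U (elemAb_omegaOneCenter _) ((omegaOneCenter_le _).trans h.core_le)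
    le_normalizer_of_normal fun e => h.U_nle ((h.U_le_V hG).trans e)

/-- If `[D, E]` is a `p`-group then `D` normalizes `E`. -/
theorem fin (h2 : Bm p T ≤ 𝐍⟮D⟯) (h3 : IsPGroup p ↥⁅D, E⁆) : D ≤ 𝐍⟮E⟯ :=
  fun _ hx => mem_norm_of_comm h.res h3 (h.le_norm h3 (le_normalizer_commutator h2 h.nB)
    (right_le_normalizer_commutator _ _)) (left_le_normalizer_commutator _ _ hx)
    fun _ he => commutator_mem_commutator hx he

end BT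

theorem pg_of_cent (hG : 𝐂⟮pCore p G⟯ ≤ pCore p G) (h : pResOf p R ≤ 𝐂⟮pCore p G⟯) : IsPGroup p R :=
  isPGroup_of_pResOf_le isPGroup_pCore (h.trans hG)

theorem BT.easy (h : BT p T E) (hG : 𝐂⟮pCore p G⟯ ≤ pCore p G) (hc : ⁅pCore p G, E⁆ ≤ 𝐖⟮p, E⟯) :
    𝐂⟮𝐔⟮p, E⟯⟯ ≤ 𝐍⟮E⟯ := by
  have n := le_normalizer.trans (norm_U (p := p) E)
  have c : ⁅pCore p G, E⁆ ≤ 𝐔⟮p, E⟯ := (comm_eq_of_res h.res isPGroup_pCore
    le_normalizer_of_normal).ge.trans (commutator_mono hc le_rfl)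
  refine h.fin (le_normalizer_centralizer (h.nB.trans (norm_U E)))
    (pg_of_cent hG (pResOf_le_centralizer_of_section (pg_U E) ((pResOf_le _).trans
      (commutator_le_left_of_le_normalizer (le_normalizer_centralizer n))) ?_))
  exact (le_centMod.1 ((pResOf_le _).trans ((commutator_mono le_rfl (le_centMod.2 ⟨n, c⟩)).trans
    (commutator_le_right_of_le_normalizer (le_normalizer_centMod le_normalizer_of_normal
      (centralizer_le_normalizer' _)))))).2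

section inv

variable {F : Type} [Field F] [Fintype F] [CharP F p] {ψ ψ' : G → Fin 2 → F}

omit [Fintype F] in
theorem Blk.exists_inv (h : Blk p B E) (d : Mdl E 𝐖⟮p, E⟯ 𝐙⟮p, E⟯ ψ (RL F)) (h2 : p ≠ 2) :
    ∃ t ∈ E, t * t = 1 ∧ act 𝐖⟮p, E⟯ ψ t = mvP (-1) := by
  obtain ⟨e, he, k⟩ := d.onto_lin (neg_one_mem (p := p) h2)
  obtain ⟨n, hn⟩ := exists_coprime_pow (p := p) e
  have m := pow_mem he (p ^ n)
  have a : act 𝐖⟮p, E⟯ ψ (e ^ p ^ n) = mvP (-1) := by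
    rw [d.act_pow (d.nW he) (d.nZ' he), k, ← map_pow, ((hp.out.odd_of_ne_two h2).pow).neg_one_pow]
  refine ⟨_, m, eq_one_of_coprime_of_mem (isPGroup_pCoreOf E) (h.ker (mem_inf.2 ⟨mul_mem m m,
    (d.act_eq_one (d.nW (mul_mem m m)) (d.nZ' (mul_mem m m))).1 ?_⟩)) ?_, a⟩
  · rw [d.act_mul (d.nW m) (d.nZ' m) (d.nW m) (d.nZ' m), a, ← map_mul]; simp
  · rw [← sq]; exact Nat.Coprime.coprime_dvd_left (orderOf_pow_dvd 2) hn

omit [Finite G] [Fintype F] in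
theorem Sec.mem_of_neg (d : Sec W Z ψ) (h2 : p ≠ 2) (h1 : t ∈ 𝐍⟮W⟯) (h0 : t ∈ 𝐍⟮Z⟯)
    (ht : act W ψ t = mvP (-1)) {u : G} (hu : u ∈ W) (e : t * u * t⁻¹ * u⁻¹ ∈ Z) : u ∈ Z := by
  rw [← d.fix_iff h1 h0 hu, ht, mvP_apply, mv_neg_one, neg_eq_iff_add_eq_zero, ← two_smul F,
    smul_eq_zero, or_iff_right (Classical.SL2Basic.two_ne_zero_of_char h2)] at e
  exact (d.ker u hu).1 e

omit [Finite G] [Fintype F] hp [CharP F p] in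
theorem Blk.conj_inv (h : Blk p B E) (d : Mdl E 𝐖⟮p, E⟯ 𝐙⟮p, E⟯ ψ (RL F)) (hE : t ∈ E)
    (ht : act 𝐖⟮p, E⟯ ψ t = mvP (-1)) (hg : g ∈ 𝐍⟮E⟯) : ⁅g, t⁆ ∈ pCoreOf p E := by
  have m := conj_mem_of_mem_normalizer hg hE
  refine h.ker (mem_inf.2 ⟨mul_mem m (inv_mem hE), (d.act_eq_one (d.nW (mul_mem m (inv_mem hE)))
    (d.nZ' (mul_mem m (inv_mem hE)))).1 ?_⟩)
  rw [d.act_mul (d.nW m) (d.nZ' m) (d.nW (inv_mem hE)) (d.nZ' (inv_mem hE)),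
    d.act_conj (norm_W E hg) (norm_Z E hg) (d.nW hE) (d.nZ' hE), d.act_inv (d.nW hE) (d.nZ' hE), ht,
    mul_inv_eq_one, mul_inv_eq_iff_eq_mul]
  exact Equiv.ext fun v => by
    rw [Perm.mul_apply, Perm.mul_apply, mvP_apply, mvP_apply, mv_neg_one, mv_neg_one,
      d.act_neg (norm_W E hg) (norm_Z E hg)]

omit [Finite G] in
theorem coprime_of_sq (h2 : p ≠ 2) (ht : t * t = 1) (hP : IsPGroup p P) [Finite P] :
    (Nat.card (zpowers t)).Coprime (Nat.card P) := by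
  obtain ⟨n, e⟩ := hP.exists_card_eq
  rw [Nat.card_zpowers, e]
  exact (Nat.Coprime.coprime_dvd_left (orderOf_dvd_of_pow_eq_one (by rw [sq, ht]))
    ((Nat.coprime_primes Nat.prime_two hp.out).2 h2.symm)).pow_right n

theorem exists_dec (h2 : p ≠ 2) (ht : t * t = 1) (hP : IsPGroup p P) (h1 : P ≤ K) (h3 : t ∈ 𝐍⟮P⟯)
    (h4 : ∀ k ∈ K, ⁅k, t⁆ ∈ P) {k : G} (hk : k ∈ K) : ∃ q ∈ P, ∃ y ∈ K, y * t = t * y ∧ k = q * y := by
  obtain ⟨q, hq, y, hy, e⟩ := Core.exists_eq_mul_centralizer (zpowers t) K P h1 (zpowers_le.2 h3)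
    (coprime_of_sq h2 ht hP) (Or.inl inferInstance)
    (le_centMod.1 (zpowers_le.2 (mem_centMod.2 ⟨h3, h4⟩))).2 k hk
  exact ⟨q, hq, y, hy.1, (hy.2 t (mem_zpowers t)).symm, e⟩

omit [Fintype F] in
theorem Blk.U_fix (h : Blk p B E) (d : Mdl E 𝐖⟮p, E⟯ 𝐙⟮p, E⟯ ψ (RL F)) (h2 : p ≠ 2) (hE : t ∈ E)
    (h1 : t * t = 1) (ht : act 𝐖⟮p, E⟯ ψ t = mvP (-1)) {u : G} (hu : u ∈ 𝐔⟮p, E⟯)
    (e : u * t = t * u) : u = 1 := by
  have z := zpowers_le.2 hE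
  have n := z.trans d.nW
  have l := commutator_le_left_of_le_normalizer n
  have b := Core.centralizer_inf_commutator_eq_bot (zpowers t) 𝐖⟮p, E⟯
    (elemAb_omegaOneCenter _).1 n (coprime_of_sq h2 h1 (pg_W E))
  have k : 𝐔⟮p, E⟯ ≤ ⁅𝐖⟮p, E⟯, zpowers t⁆ := h.U_le_of l (fun e he => by
    obtain ⟨q, hq, y, hy, c, rfl⟩ := exists_dec h2 h1 (isPGroup_pCoreOf E) (pCoreOf_le E)
      (le_normalizer_pCoreOf E hE) (fun k hk => h.conj_inv d hE ht (le_normalizer hk)) he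
    refine mul_mem (centralizer_le_normalizer' _ (Push.cent_anti l (Q_cent_W E hq)))
      (normalizer_inf_le_normalizer_commutator _ _ (mem_inf.2 ⟨d.nW hy,
        centralizer_le_normalizer' _ ?_⟩))
    rw [centralizer_zpowers, mem_centralizer_singleton, c]) fun e => by
      have : ⁅𝐖⟮p, E⟯, zpowers t⁆ = ⊥ :=
        eq_bot_iff.2 ((le_inf (le_inf l (e.trans (Push.cent_anti z))) le_rfl).trans b.le)
      exact h.nt fun w hw => (d.mem_of_neg h2 (d.nW hE) (d.nZ' hE) ht hw (by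
        rw [le_cent_of_comm_bot this hw t (mem_zpowers t)]; simp)).2
  refine mem_bot.1 (b.le (mem_inf.2 ⟨mem_inf.2 ⟨U_le_W E hu, ?_⟩, k hu⟩))
  rw [centralizer_zpowers, mem_centralizer_singleton, e]

omit [Fintype F] in
theorem Blk.U_inf_Z (h : Blk p B E) (d : Mdl E 𝐖⟮p, E⟯ 𝐙⟮p, E⟯ ψ (RL F)) (h2 : p ≠ 2) {u : G}
    (hu : u ∈ 𝐔⟮p, E⟯) (e : u ∈ 𝐂⟮E⟯) : u = 1 := by
  obtain ⟨t, hE, h1, ht⟩ := h.exists_inv d h2
  exact h.U_fix d h2 hE h1 ht hu (e t hE).symm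

omit hp [CharP F p] [Fintype F] in
theorem Blk.kerQ (h : Blk p B E) (d : Mdl E 𝐖⟮p, E⟯ 𝐙⟮p, E⟯ ψ (RL F))
    (d' : Mdl E (pCoreOf p E) 𝐖⟮p, E⟯ ψ' (RL F)) :
    E ⊓ centMod (pCoreOf p E) 𝐖⟮p, E⟯ ≤ pCoreOf p E := by
  have h1 := card_inf_mul_relIndex (centMod 𝐖⟮p, E⟯ 𝐙⟮p, E⟯) E
  have h2 := card_inf_mul_relIndex (centMod (pCoreOf p E) 𝐖⟮p, E⟯) E
  rw [d.relIndex_cent] at h1
  rw [d'.relIndex_cent, ← h1] at h2
  have h3 := Nat.eq_of_mul_eq_mul_right (Nat.pos_of_mul_pos_left (h1 ▸ Nat.card_pos)) h2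
  rw [inf_comm] at h3
  refine (eq_of_le_of_card_le (le_inf (pCoreOf_le E) (Q_le_centMod d'.toSec)) ?_).ge
  rw [h3, inf_comm]
  exact card_le_of_le h.ker

omit [Fintype F] in
theorem Blk.invQ (h : Blk p B E) (d : Mdl E 𝐖⟮p, E⟯ 𝐙⟮p, E⟯ ψ (RL F))
    (d' : Mdl E (pCoreOf p E) 𝐖⟮p, E⟯ ψ' (RL F)) (h2 : p ≠ 2) (hE : t ∈ E)
    (h1 : t * t = 1) (ht : act 𝐖⟮p, E⟯ ψ t = mvP (-1)) : act (pCoreOf p E) ψ' t = mvP (-1) := by
  obtain ⟨s, -, hs⟩ := d'.mem_lin hE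
  have e : s * s = 1 := mvP_inj (by
    rw [map_mul, ← hs, ← d'.act_mul (d'.nW hE) (d'.nZ' hE) (d'.nW hE) (d'.nZ' hE), h1, d'.act_one,
      map_one])
  have h20 : (2 : F) ≠ 0 := Classical.SL2Basic.two_ne_zero_of_char h2
  rcases Classical.SL2Basic.eq_of_mul_self_eq_one h20 e with rfl | rfl
  · have := h.kerQ d d' (mem_inf.2 ⟨hE, (d'.act_eq_one (d'.nW hE) (d'.nZ' hE)).1 (hs.trans (map_one _))⟩)
    rw [(d.act_eq_one (d.nW hE) (d.nZ' hE)).2 (cent_le_centMod inf_le_left (Q_cent_W E this)),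
      ← map_one mvP] at ht
    exact (Classical.SL2Basic.neg_one_ne_one h20 (mvP_inj ht).symm).elim
  · exact hs

end inv

end Cfsg.Agent.BHS
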