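import Cfsg.Agent.BHS.Blk

/-! The action of `J(T)` and `B(T)` on blocks. -/

namespace Cfsg.Agent.BHS

open Subgroup Cfsg.Agent.LocalEven Cfsg.Agent.Glaub Cfsg.Agent.Push Equiv
open scoped commutatorElement MatrixGroups

variable {G : Type*} [Group G] {p : ℕ} {B E A N K T P W Z : Subgroup G} {g : G}

theorem Sec.exists_fix [Fact p.Prime] {X : Type*} [AddCommGroup X] [Finite X] {ψ : G → X}
    (h : Sec W Z ψ) (hP : IsPGroup p P) (h1 : P ≤ 𝐍⟮W⟯) (h2 : P ≤ 𝐍⟮Z⟯) (hd : p ∣ Nat.card X) :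
    ∃ x ≠ 0, ∀ a ∈ P, act W ψ a x = x := by
  have : IsPGroup p (h.im P) := (isPGroup_subgroupOf hP).map _
  obtain ⟨x, hx, hx0⟩ := this.exists_fixed_point_of_prime_dvd_card_of_fixed_point X hd (a := 0)
    fun a => (h.fix h1 h2).zero_mem a a.2
  exact ⟨x, hx0.symm, fun a ha => hx ⟨_, (h.mem_im h1 h2).2 ⟨a, ha, rfl⟩⟩⟩

theorem exists_coprime_pow [Fact p.Prime] [Finite G] (g : G) :
    ∃ k, (orderOf (g ^ p ^ k)).Coprime p := by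
  obtain ⟨k, m, hm, e⟩ := Nat.exists_eq_pow_mul_and_not_dvd (orderOf_pos g).ne' p
    (Fact.out : p.Prime).ne_one
  exact ⟨k, Nat.Coprime.coprime_dvd_left (orderOf_dvd_of_pow_eq_one (by
    rw [← pow_mul, ← e, pow_orderOf_eq_one])) ((Nat.Prime.coprime_iff_not_dvd Fact.out).2 hm).symm⟩

section lin

variable {F : Type*} [Field F] [Fintype F] [hp : Fact p.Prime] [CharP F p] {ψ : G → Fin 2 → F}

theorem dvd_card_vec : p ∣ Nat.card (Fin 2 → F) := by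
  obtain ⟨n, -, e⟩ := FiniteField.card F p
  rw [Nat.card_eq_fintype_card, Fintype.card_fun, e, ← pow_mul]
  exact dvd_pow_self p (by simp)

omit [Fintype F] in
theorem Sec.exists_sl (h : Sec W Z ψ) (h1 : g ∈ 𝐍⟮W⟯) (h2 : g ∈ 𝐍⟮Z⟯) {k : ℕ} (hk : g ^ p ^ k = 1)
    (hl : ∀ (c : F) v, act W ψ g (c • v) = c • act W ψ g v) : ∃ s, act W ψ g = mvP s := by
  obtain ⟨s, hs⟩ := exists_sl_of_pow (p := p) _ (h.act_add h1 h2) hl (k := k)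
    (by rw [← h.act_pow h1 h2, hk, h.act_one])
  exact ⟨s, Equiv.ext hs⟩

omit [Fintype F] hp [CharP F p] in
theorem Sec.quad_of (h : Sec W Z ψ) (h1 : P ≤ 𝐍⟮W⟯) (h2 : P ≤ 𝐍⟮Z⟯) {x : Fin 2 → F} (hx : x ≠ 0)
    (hl : ∀ a ∈ P, ∃ s, mv s x = x ∧ act W ψ a = mvP s) : ⁅⁅W, P⁆, P⁆ ≤ Z := by
  obtain ⟨y, hy⟩ := exists_dt hx
  have k : ⁅W, P⁆ ≤ W ⊓ centMod P Z := by
    rw [commutator_comm, commutator_le]
    intro a ha u hu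
    have m : ⁅a, u⁆ ∈ W := mul_mem (conj_mem_of_mem_normalizer (h1 ha) hu) (inv_mem hu)
    refine mem_inf.2 ⟨m, (h.mem_centMod h1 h2 m).2 fun b hb => ?_⟩
    obtain ⟨s, s1, s2⟩ := hl a ha
    obtain ⟨r, r1, r2⟩ := hl b hb
    rw [commutatorElement_def, h.comm (h1 ha) (h2 ha) hu, s2, r2, mvP_apply, mvP_apply,
      mv_of_fix hy s1, add_sub_cancel_left, mv_smul, r1]
  rw [commutator_comm]
  exact (le_centMod.1 (k.trans inf_le_right)).2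

theorem Sec.quad_of_lin (h : Sec W Z ψ) (hP : IsPGroup p P) (h1 : P ≤ 𝐍⟮W⟯) (h2 : P ≤ 𝐍⟮Z⟯)
    (hl : ∀ a ∈ P, ∀ (c : F) v, act W ψ a (c • v) = c • act W ψ a v) : ⁅⁅W, P⁆, P⁆ ≤ Z := by
  obtain ⟨x, hx, fx⟩ := h.exists_fix hP h1 h2 dvd_card_vec
  refine h.quad_of h1 h2 hx fun a ha => ?_
  obtain ⟨k, hk⟩ := isPGroup_iff_mem.1 hP a ha
  obtain ⟨s, hs⟩ := h.exists_sl (h1 ha) (h2 ha) hk (hl a ha)
  exact ⟨s, by rw [← mvP_apply, ← hs, fx a ha], hs⟩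

end lin

variable [Finite G] [hp : Fact p.Prime]

omit hp in
theorem relIndex_le_of_mul {U : Subgroup G} (h : ∀ w ∈ W, ∃ u ∈ U, u⁻¹ * w ∈ K) :
    K.relIndex W ≤ K.relIndex U := by
  choose! f f1 f2 using h
  refine Nat.card_le_card_of_injective (fun x : ↥W ⧸ K.subgroupOf W =>
    (QuotientGroup.mk ⟨f x.out, f1 _ x.out.2⟩ : ↥U ⧸ K.subgroupOf U)) fun x y e => ?_
  have e' : (f x.out)⁻¹ * f y.out ∈ K := mem_subgroupOf.1 (QuotientGroup.eq.1 e)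
  rw [← x.out_eq, ← y.out_eq]
  refine QuotientGroup.eq.2 (mem_subgroupOf.2 ?_)
  have := mul_mem (mul_mem (inv_mem (f2 _ x.out.2)) e') (f2 _ y.out.2)
  simpa [mul_assoc] using this

theorem Blk.relIndex_U (h : Blk p B E) (hK : 𝐙⟮p, E⟯ ≤ K) :
    K.relIndex 𝐖⟮p, E⟯ = K.relIndex 𝐔⟮p, E⟯ := by
  refine le_antisymm (relIndex_le_of_mul fun w hw => ?_)
    (relIndex_le_of_le_right (U_le_W E) index_ne_zero_of_finite)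
  obtain ⟨u, hu, z, hz, rfl⟩ := (mem_sup_iff_of_le_normalizer ((U_le E).trans
    (le_normalizer.trans (norm_Z E)))).1 (h.W_le_sup hw)
  exact ⟨u, hu, by rw [inv_mul_cancel_left]; exact hK hz⟩

theorem Blk.relIndex_cent (h : Blk p B E) (h0 : A ≤ 𝐍⟮E⟯) :
    (centMod 𝐖⟮p, E⟯ 𝐙⟮p, E⟯).relIndex A = 𝐂⟮𝐔⟮p, E⟯⟯.relIndex A := by
  rw [← inf_relIndex_right, ← inf_relIndex_right (𝐂⟮_⟯)]
  congr 1; ext a
  simp only [mem_inf]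
  exact and_congr_left fun ha => (h.mem_cent_U (h0 ha)).symm

omit [Finite G] hp in
theorem Z_le_centMod (h0 : A ≤ 𝐍⟮E⟯) : 𝐙⟮p, E⟯ ≤ centMod A 𝐙⟮p, E⟯ :=
  le_centMod.2 ⟨le_normalizer, commutator_le_right_of_le_normalizer (h0.trans (norm_Z E))⟩

omit hp in
theorem off_relIndex {V : Subgroup G} (hA : A ∈ Transfer.MaxEA p T) (hV : V ≤ T)
    (e : IsElementaryAbelian p V) : 𝐂⟮A⟯.relIndex V ≤ 𝐂⟮V⟯.relIndex A := by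
  have := Transfer.card_mul_le_of_mem_maxEA hA hV e
  rw [← card_inf_mul_relIndex (𝐂⟮A⟯) V, ← card_inf_mul_relIndex (𝐂⟮V⟯) A, inf_comm A, inf_comm V,
    mul_assoc, mul_comm (relIndex _ A)] at this
  exact Nat.le_of_mul_le_mul_left (Nat.le_of_mul_le_mul_left this Nat.card_pos) Nat.card_pos

theorem Blk.off_eq (h : Blk p B E) (hA : A ∈ Transfer.MaxEA p T) (hU : 𝐔⟮p, E⟯ ≤ T)
    (h0 : A ≤ 𝐍⟮E⟯) : 𝐔⟮p, E⟯ ⊓ centMod A 𝐙⟮p, E⟯ ≤ 𝐂⟮A⟯ ∧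
      (centMod A 𝐙⟮p, E⟯).relIndex 𝐖⟮p, E⟯ ≤ (centMod 𝐖⟮p, E⟯ 𝐙⟮p, E⟯).relIndex A := by
  have h1 := off_relIndex hA hU (ea_U E)
  have h2 := h.noo h0 hA.2.1
  rw [h.relIndex_U (Z_le_centMod h0), h.relIndex_cent h0] at h2 ⊢
  have h3 : 𝐂⟮A⟯ ⊓ 𝐔⟮p, E⟯ ≤ centMod A 𝐙⟮p, E⟯ ⊓ 𝐔⟮p, E⟯ := le_inf (le_centMod.2
    ⟨inf_le_right.trans ((U_le E).trans (le_normalizer.trans (norm_Z E))),
      (comm_bot_of_le_cent (le_cent_comm inf_le_left)).le.trans bot_le⟩) inf_le_right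
  have h4 := card_inf_mul_relIndex (𝐂⟮A⟯) 𝐔⟮p, E⟯
  have h5 := card_inf_mul_relIndex (centMod A 𝐙⟮p, E⟯) 𝐔⟮p, E⟯
  have h6 := eq_of_le_of_card_le h3 (Nat.le_of_mul_le_mul_right ((h5.trans h4.symm).le.trans
    (Nat.mul_le_mul_left _ (h1.trans h2))) (Nat.pos_of_ne_zero index_ne_zero_of_finite))
  refine ⟨by rw [inf_comm, ← h6]; exact inf_le_left, le_trans ?_ h1⟩
  rw [← inf_relIndex_right, ← h6, inf_relIndex_right]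

/-- `J(T)` centralizes the preimage of its fixed points. -/
theorem Blk.cent_J (h : Blk p B E) (hU : 𝐔⟮p, E⟯ ≤ T) (h0 : Jt p T ≤ 𝐍⟮E⟯) :
    𝐔⟮p, E⟯ ⊓ centMod (Jt p T) 𝐙⟮p, E⟯ ≤ 𝐂⟮Jt p T⟯ :=
  le_cent_comm (Transfer.thompsonSubgroupOf_le_iff.2 fun A hA => le_cent_comm (le_trans
    (inf_le_inf_left _ (le_centMod.2 ⟨(le_centMod.1 le_rfl).1, (commutator_mono
      (Transfer.le_thompsonSubgroupOf hA) le_rfl).trans (le_centMod.1 le_rfl).2⟩))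
    (h.off_eq hA hU ((Transfer.le_thompsonSubgroupOf hA).trans h0)).1))

theorem Blk.cent_B (h : Blk p B E) (hU : 𝐔⟮p, E⟯ ≤ T) (h0 : Jt p T ≤ 𝐍⟮E⟯) :
    Bm p T ≤ 𝐂⟮𝐔⟮p, E⟯ ⊓ centMod (Jt p T) 𝐙⟮p, E⟯⟯ :=
  bm_le_cent_of (inf_le_left.trans hU) (fun y hy => (ea_U E).2 y hy.1) (h.cent_J hU h0)

theorem Blk.exists_U {X : Type*} [AddCommGroup X] {ψ : G → X} (h : Blk p B E)
    (d : Sec 𝐖⟮p, E⟯ 𝐙⟮p, E⟯ ψ) (x : X) : ∃ u ∈ 𝐔⟮p, E⟯, ψ u = x :=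
  (d.sub (U_le_W E) h.W_le_sup).surj x

variable {F : Type*} [Field F] [Fintype F] [CharP F p] {ψ : G → Fin 2 → F}

/-- The action of `J(T)` and `B(T)` on a linear block. -/
theorem Blk.line (h : Blk p B E) (d : Mdl E 𝐖⟮p, E⟯ 𝐙⟮p, E⟯ ψ (RL F)) (hT : IsPGroup p T)
    (hU : 𝐔⟮p, E⟯ ≤ T) (h0 : Jt p T ≤ 𝐍⟮E⟯) (hJ : ¬ Jt p T ≤ 𝐂⟮𝐔⟮p, E⟯⟯) : ∃ x ≠ 0,
      (∀ u ∈ 𝐖⟮p, E⟯, u ∈ centMod (Jt p T) 𝐙⟮p, E⟯ ↔ ∃ c : F, ψ u = c • x) ∧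
      (∀ s, mv s x = x → ∃ a ∈ Jt p T, act 𝐖⟮p, E⟯ ψ a = mvP s) ∧
      ∀ b ∈ Bm p T, b ∈ 𝐍⟮E⟯ → ∃ s, mv s x = x ∧ act 𝐖⟮p, E⟯ ψ b = mvP s := by
  have n1 := h0.trans (norm_W (p := p) E)
  have n2 := h0.trans (norm_Z (p := p) E)
  obtain ⟨x, x0, fx⟩ := d.exists_fix (hT.to_le (jt_le T)) n1 n2 dvd_card_vec
  have k : ∀ A ∈ Transfer.MaxEA p T, ¬ A ≤ centMod 𝐖⟮p, E⟯ 𝐙⟮p, E⟯ →
      (∀ u ∈ 𝐖⟮p, E⟯, u ∈ centMod A 𝐙⟮p, E⟯ ↔ ∃ c : F, ψ u = c • x) ∧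
      ∀ s, mv s x = x → ∃ a ∈ A, act 𝐖⟮p, E⟯ ψ a = mvP s := fun A hA ne => by
    have l := Transfer.le_thompsonSubgroupOf hA
    obtain ⟨y, y0, a1, a2⟩ := (d.off_lin (l.trans h0) (l.trans n1) (l.trans n2) hA.2.1 ne).2
      (h.off_eq hA hU (l.trans h0)).2
    obtain ⟨w, hw, e⟩ := d.surj x
    obtain ⟨c, hc⟩ := (a1 w hw).1 ((d.mem_centMod (l.trans n1) (l.trans n2) hw).2
      fun a ha => by rw [e]; exact fx a (l ha))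
    rw [e] at hc
    have c0 : c ≠ 0 := fun e => x0 (by rw [hc, e, zero_smul])
    refine ⟨fun u hu => (a1 u hu).trans ⟨fun ⟨r, hr⟩ => ⟨r * c⁻¹, ?_⟩, fun ⟨r, hr⟩ => ⟨r * c, ?_⟩⟩,
      fun s hs => a2 s (smul_right_injective _ c0 ?_)⟩
    · rw [hr, hc, smul_smul, inv_mul_cancel_right₀ c0]
    · rw [hr, hc, smul_smul]
    · simp only; rw [← mv_smul, ← hc, hs]
  obtain ⟨A, hA, ne⟩ : ∃ A ∈ Transfer.MaxEA p T, ¬ A ≤ centMod 𝐖⟮p, E⟯ 𝐙⟮p, E⟯ := by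
    by_contra! e
    exact hJ (h.cent_U_of h0 (Transfer.thompsonSubgroupOf_le_iff.2 e))
  have l := Transfer.le_thompsonSubgroupOf hA
  have a1 : ∀ u ∈ 𝐖⟮p, E⟯, u ∈ centMod (Jt p T) 𝐙⟮p, E⟯ ↔ ∃ c : F, ψ u = c • x := fun u hu => by
    refine ⟨fun e => ((k A hA ne).1 u hu).1 (mem_centMod.2 ⟨(mem_centMod.1 e).1,
      fun a ha => (mem_centMod.1 e).2 a (l ha)⟩), fun e => ?_⟩
    have : Jt p T ≤ centMod (zpowers u) 𝐙⟮p, E⟯ := Transfer.thompsonSubgroupOf_le_iff.2 fun C hC => by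
      have l := Transfer.le_thompsonSubgroupOf hC
      refine le_centMod.2 ⟨l.trans n2, ?_⟩
      by_cases ne : C ≤ centMod 𝐖⟮p, E⟯ 𝐙⟮p, E⟯
      · exact (commutator_mono (zpowers_le.2 hu) le_rfl).trans (le_centMod.1 ne).2
      · rw [commutator_comm]
        exact (le_centMod.1 (zpowers_le.2 (((k C hC ne).1 u hu).2 e))).2
    refine zpowers_le.1 (le_centMod.2 ⟨zpowers_le.2 (d.nZ hu), ?_⟩)
    rw [commutator_comm]; exact (le_centMod.1 this).2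
  refine ⟨x, x0, a1, fun s hs => ((k A hA ne).2 s hs).imp fun a ha => ⟨l ha.1, ha.2⟩,
    fun b hb hn => ?_⟩
  have f : ∀ c : F, act 𝐖⟮p, E⟯ ψ b (c • x) = c • x := fun c => by
    obtain ⟨u, hu, e⟩ := h.exists_U d.toSec (c • x)
    have := h.cent_B hU h0 hb u (mem_inf.2 ⟨hu, (a1 u (U_le_W E hu)).2 ⟨c, e⟩⟩)
    rw [← e, d.act_apply (norm_W E hn) (norm_Z E hn) (U_le_W E hu), ← this, mul_inv_cancel_right]
  have f1 : act 𝐖⟮p, E⟯ ψ b x = x := by simpa using f 1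
  obtain ⟨θ, hθ⟩ := d.semi hn (norm_W E hn) (norm_Z E hn)
  obtain ⟨k, hk⟩ := isPGroup_iff_mem.1 hT b (bm_le T hb)
  obtain ⟨s, hs⟩ := d.exists_sl (norm_W E hn) (norm_Z E hn) hk fun c v => by
    have := hθ c x
    rw [f, f1] at this
    rw [hθ, ← smul_left_injective F x0 this]
  exact ⟨s, by rw [← mvP_apply, ← hs, f1], hs⟩

end Cfsg.Agent.BHS
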