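import Cfsg.Agent.BHS.Exc

/-! Transport of blocks along injective homomorphisms. -/

namespace Cfsg.Agent.BHS

open Subgroup Cfsg.Agent.LocalEven Cfsg.Agent.Glaub Cfsg.Agent.Push Equiv
open scoped commutatorElement MatrixGroups

variable {G G' : Type*} [Group G] [Group G'] {f : G →* G'} {p : ℕ} {B E T W Z H : Subgroup G}
  {g : G} {X : Type*} [AddCommGroup X] {R : Subgroup (Perm X)}

theorem map_mem_norm (hf : Function.Injective f) : f g ∈ 𝐍⟮W.map f⟯ ↔ g ∈ 𝐍⟮W⟯ := by
  rw [← cj_eq_self_iff, ← cj_eq_self_iff, ← LocalEven.map_cj]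
  exact (map_injective hf).eq_iff

theorem map_le_norm (hf : Function.Injective f) : E.map f ≤ 𝐍⟮W.map f⟯ ↔ E ≤ 𝐍⟮W⟯ := by
  rw [map_le_iff_le_comap]
  exact forall₂_congr fun g _ => map_mem_norm hf

theorem map_mem_cent (hf : Function.Injective f) : f g ∈ 𝐂⟮W.map f⟯ ↔ g ∈ 𝐂⟮W⟯ :=
  ⟨fun h w hw => hf (by rw [map_mul, map_mul]; exact h _ (mem_map_of_mem f hw)), fun h => by
    rintro _ ⟨w, hw, rfl⟩; rw [← map_mul, ← map_mul, h w hw]⟩

theorem map_le_cent_iff (hf : Function.Injective f) : E.map f ≤ 𝐂⟮W.map f⟯ ↔ E ≤ 𝐂⟮W⟯ := by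
  rw [map_le_iff_le_comap]
  exact forall₂_congr fun g _ => map_mem_cent hf

theorem map_mem_centMod (hf : Function.Injective f) :
    f g ∈ centMod (W.map f) (Z.map f) ↔ g ∈ centMod W Z := by
  rw [mem_centMod, mem_centMod, map_mem_norm hf]
  refine and_congr_right fun _ => ⟨fun h v hv => ?_, ?_⟩
  · have := h _ (mem_map_of_mem f hv)
    rwa [← map_commutatorElement, mem_map_iff_mem hf] at this
  · rintro h _ ⟨v, hv, rfl⟩
    rw [← map_commutatorElement]; exact mem_map_of_mem f (h v hv)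

theorem Sec.comap (hf : Function.Injective f) {ψ : G' → X} (h : Sec (W.map f) (Z.map f) ψ) :
    Sec W Z (ψ ∘ f) where
  le := (map_le_map_iff_of_injective hf).1 h.le
  mul u hu v hv := by
    simp only [Function.comp, map_mul]; exact h.mul _ (mem_map_of_mem f hu) _ (mem_map_of_mem f hv)
  surj x := by
    obtain ⟨_, ⟨u, hu, rfl⟩, e⟩ := h.surj x
    exact ⟨u, hu, e⟩
  ker u hu := (h.ker _ (mem_map_of_mem f hu)).trans (mem_map_iff_mem hf)

theorem Sec.act_comap (hf : Function.Injective f) {ψ : G' → X} (h : Sec (W.map f) (Z.map f) ψ)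
    (h1 : g ∈ 𝐍⟮W⟯) (h2 : g ∈ 𝐍⟮Z⟯) : act W (ψ ∘ f) g = act (W.map f) ψ (f g) :=
  Equiv.ext ((h.comap hf).act_eq h1 h2 fun u hu => by
    simp only [Function.comp, map_mul, map_inv]
    exact (h.act_apply ((map_mem_norm hf).2 h1) ((map_mem_norm hf).2 h2) (mem_map_of_mem f hu)).symm)

theorem Mdl.comap (hf : Function.Injective f) {ψ : G' → X}
    (h : Mdl (E.map f) (W.map f) (Z.map f) ψ R) : Mdl E W Z (ψ ∘ f) R := by
  have n1 := (map_le_norm hf).1 h.nW
  have n2 := (map_le_norm hf).1 h.nZ'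
  refine ⟨h.toSec.comap hf, n1, n2, fun e he => ?_, fun r hr => ?_⟩
  · rw [h.act_comap hf (n1 he) (n2 he)]; exact h.mem _ (mem_map_of_mem f he)
  · obtain ⟨_, ⟨e, he, rfl⟩, rfl⟩ := h.onto r hr
    exact ⟨e, he, h.act_comap hf (n1 he) (n2 he)⟩

theorem Mdl.map (hf : Function.Injective f) {ψ : G → X} (h : Mdl E W Z ψ R) :
    ∃ ψ', Mdl (E.map f) (W.map f) (Z.map f) ψ' R := by
  have l : ∀ u, Function.invFun f (f u) = u := Function.leftInverse_invFun hf
  have s : Sec (W.map f) (Z.map f) (ψ ∘ Function.invFun f) := ⟨map_mono h.le, by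
      rintro _ ⟨u, hu, rfl⟩ _ ⟨v, hv, rfl⟩
      simp only [Function.comp, ← map_mul, l]; exact h.mul u hu v hv, fun x => by
      obtain ⟨u, hu, e⟩ := h.surj x
      exact ⟨_, mem_map_of_mem f hu, by simp only [Function.comp, l, e]⟩, by
      rintro _ ⟨u, hu, rfl⟩
      simp only [Function.comp, l, mem_map_iff_mem hf]; exact h.ker u hu⟩
  have e : (ψ ∘ Function.invFun f) ∘ f = ψ := funext fun u => by simp only [Function.comp, l]
  have k : ∀ a ∈ E, act (W.map f) (ψ ∘ Function.invFun f) (f a) = act W ψ a := fun a ha => by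
    rw [← s.act_comap hf (h.nW ha) (h.nZ' ha), e]
  refine ⟨_, s, (map_le_norm hf).2 h.nW, (map_le_norm hf).2 h.nZ', ?_, fun r hr => ?_⟩
  · rintro _ ⟨a, ha, rfl⟩; rw [k a ha]; exact h.mem a ha
  · obtain ⟨a, ha, rfl⟩ := h.onto r hr
    exact ⟨_, mem_map_of_mem f ha, k a ha⟩

theorem mdl_map_iff (hf : Function.Injective f) :
    (∃ ψ, Mdl (E.map f) (W.map f) (Z.map f) ψ R) ↔ ∃ ψ, Mdl E W Z ψ R :=
  ⟨fun ⟨_, h⟩ => ⟨_, h.comap hf⟩, fun ⟨_, h⟩ => h.map hf⟩

theorem map_W (hf : Function.Injective f) (E : Subgroup G) : 𝐖⟮p, E.map f⟯ = (𝐖⟮p, E⟯).map f := by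
  rw [map_omegaOneCenter_of_injective f hf, map_pCoreOf_of_injective f hf]

theorem map_Z (hf : Function.Injective f) (E : Subgroup G) : 𝐙⟮p, E.map f⟯ = (𝐙⟮p, E⟯).map f := by
  rw [map_inf_cent hf, map_W hf]

theorem map_U (hf : Function.Injective f) (E : Subgroup G) : 𝐔⟮p, E.map f⟯ = (𝐔⟮p, E⟯).map f := by
  rw [map_commutator, map_W hf]

theorem map_phi' (hf : Function.Injective f) (Q : Subgroup G) : phi (Q.map f) = (phi Q).map f := by
  let e := Q.equivMapOfInjective f hf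
  have : (frattini Q).map e.toMonoidHom = frattini (Q.map f) := le_antisymm
    (map_le_iff_le_comap.2 (frattini_le_comap_frattini_of_surjective e.surjective)) fun x hx =>
      ⟨e.symm x, frattini_le_comap_frattini_of_surjective (φ := e.symm.toMonoidHom)
        e.symm.surjective hx, e.apply_symm_apply x⟩
  rw [phi, ← this, map_map, phi, map_map]; rfl

theorem exc_map_iff (hf : Function.Injective f) {F : Type} [Field F] [Fintype F] :
    Exc p F (B.map f) (E.map f) ↔ Exc p F B E := by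
  have i := map_injective (G := G) hf
  constructor <;> rintro ⟨a1, a2, a3, a4, a5, a6, a7⟩
  · rw [map_Z hf] at a3 a4 a5 a6 a7
    rw [map_W hf] at a2 a7
    rw [← map_pCoreOf_of_injective f hf] at a2 a3 a4 a7
    refine ⟨a1, (mdl_map_iff hf).1 a2, i (by rw [map_commutator, a3]), i (by rw [← map_phi' hf, a4]),
      i (by rw [map_inf_cent hf, a5]), by rw [← a6, card_map_of_injective hf], fun b hb h1 h2 =>
        a7 _ (mem_map_of_mem f hb) (mt (map_mem_cent hf).1 h1) ?_⟩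
    rw [← MonoidHom.map_zpowers, ← map_commutator, ← map_commutator]
    exact map_mono h2
  · refine ⟨a1, ?_, ?_, ?_, ?_, ?_, ?_⟩ <;> (try rw [map_Z hf]) <;> (try rw [map_W hf]) <;>
      (try rw [← map_pCoreOf_of_injective f hf])
    · exact (mdl_map_iff hf).2 a2
    · rw [← map_commutator, a3]
    · rw [map_phi' hf, a4]
    · rw [← map_inf_cent hf, a5]
    · rw [card_map_of_injective hf, a6]
    · rintro _ ⟨b, hb, rfl⟩ h1 h2
      rw [← MonoidHom.map_zpowers, ← map_commutator, ← map_commutator,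
        map_le_map_iff_of_injective hf] at h2
      exact a7 b hb (mt (map_mem_cent hf).2 h1) h2

theorem blk_map_iff (hf : Function.Injective f) : Blk p (B.map f) (E.map f) ↔ Blk p B E := by
  have i := map_injective (G := G) hf
  have k1 : pCoreOf p (E.map f) = 𝐖⟮p, E.map f⟯ ↔ pCoreOf p E = 𝐖⟮p, E⟯ := by
    rw [map_W hf, ← map_pCoreOf_of_injective f hf, i.eq_iff]
  have k2 : LinB p (B.map f) (E.map f) ↔ LinB p B E := by
    simp only [LinB, k1, exc_map_iff hf]
    rw [map_Z hf, map_W hf]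
    simp only [mdl_map_iff hf]
  have k3 : PerB p (E.map f) ↔ PerB p E := by
    simp only [PerB, k1]
    rw [map_Z hf, map_W hf]
    simp only [mdl_map_iff hf]
  constructor <;> rintro ⟨a1, a2, a3, a4, a5⟩
  · refine ⟨i (by rw [map_pResOf_of_injective f hf, a1]), i (by rw [map_commutator, a2]),
      i (by rw [map_commutator, map_pCoreOf_of_injective f hf, a3]), fun x hx => ?_,
      a5.imp k2.1 k3.1⟩
    rw [map_Z hf, map_W hf, ← map_pCoreOf_of_injective f hf] at a4
    exact (mem_map_iff_mem hf).1 (a4 (mem_inf.2 ⟨mem_map_of_mem f hx.1, (map_mem_centMod hf).2 hx.2⟩))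
  · refine ⟨by rw [← map_pResOf_of_injective f hf, a1], by rw [← map_commutator, a2],
      by rw [← map_pCoreOf_of_injective f hf, ← map_commutator, a3], ?_, a5.imp k2.2 k3.2⟩
    rw [map_Z hf, map_W hf, ← map_pCoreOf_of_injective f hf]
    rintro _ ⟨⟨x, hx, rfl⟩, h⟩
    exact mem_map_of_mem f (a4 (mem_inf.2 ⟨hx, (map_mem_centMod hf).1 h⟩))

theorem Blk.cj (h : Blk p B E) (g : G) : Blk p (cj g B) (cj g E) :=
  (blk_map_iff (MulAut.conj g).injective).2 h

theorem BT.cj (h : BT p T E) (g : G) : BT p (cj g T) (cj g E) :=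
  ⟨by rw [← cj_bm]; exact h.toBlk.cj g, isPGroup_cj g h.pg, by rw [← cj_bm]; exact h.wc.conj g,
    by rw [← cj_U]; exact cj_mono g h.le⟩

theorem BT.subgroupOf [Finite G] (h : BT p T E) (h1 : Bm p T ≤ H) (h2 : E ≤ H) :
    BT p (T.subgroupOf H) (E.subgroupOf H) := by
  have i := H.subtype_injective
  have e : (Bm p (T.subgroupOf H)).map H.subtype = Bm p T := by
    rw [map_bm i, subgroupOf_map_subtype]
    exact bm_eq_of_le (le_inf (bm_le T) h1) inf_le_left
  have e' : Bm p (T.subgroupOf H) = (Bm p T).subgroupOf H := by rw [← e, map_subtype_subgroupOf]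
  have e2 := map_subgroupOf_eq_of_le h2
  refine ⟨(blk_map_iff i).1 (by rw [e, e2]; exact h.toBlk), isPGroup_subgroupOf h.pg,
    e' ▸ h.wc.subgroupOf h1, ?_⟩
  have := map_U (p := p) i (E.subgroupOf H)
  rw [e2] at this
  exact fun x hx => h.le (this.ge (mem_map_of_mem _ hx))

end Cfsg.Agent.BHS
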