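import Mathlib.GroupTheory.SpecificGroups.Alternating
import Mathlib.GroupTheory.PGroup
import Mathlib.Data.ZMod.Basic
import Mathlib.Algebra.BigOperators.Pi
import Mathlib.Algebra.Module.Submodule.Basic
import Mathlib.Tactic
import Cfsg.Agent.LocalEven.Conj

/-! The even weight permutation module of odd degree. -/

namespace Cfsg.Agent.BHS

open Subgroup Equiv

variable {n : ℕ}

/-- The even weight vectors. -/
def Ev (n : ℕ) : Submodule (ZMod 2) (Fin n → ZMod 2) where
  carrier := {v | ∑ i, v i = 0}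
  add_mem' {a b} ha hb := by
    simp only [Set.mem_setOf_eq, Pi.add_apply, Finset.sum_add_distrib] at *
    rw [ha, hb, add_zero]
  zero_mem' := by simp
  smul_mem' c a ha := by
    simp only [Set.mem_setOf_eq, Pi.smul_apply, ← Finset.smul_sum] at *
    rw [ha, smul_zero]

theorem mem_ev {v : Fin n → ZMod 2} : v ∈ Ev n ↔ ∑ i, v i = 0 := Iff.rfl

theorem ev_comp (σ : Perm (Fin n)) (v : Ev n) : (fun i => v.1 (σ i)) ∈ Ev n :=
  (Equiv.sum_comp σ v.1).trans v.2

/-- The action of the symmetric group. -/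
def pv : Perm (Fin n) →* Perm (Ev n) where
  toFun σ := ⟨fun v => ⟨fun i => v.1 (σ⁻¹ i), ev_comp _ v⟩, fun v => ⟨fun i => v.1 (σ i), ev_comp _ v⟩,
    fun v => by ext i; simp, fun v => by ext i; simp⟩
  map_one' := by ext v i; simp
  map_mul' σ τ := by ext v i; simp

theorem pv_apply (σ : Perm (Fin n)) (v : Ev n) (i : Fin n) : (pv σ v).1 i = v.1 (σ⁻¹ i) := rfl

theorem pv_add (σ : Perm (Fin n)) (u v : Ev n) : pv σ (u + v) = pv σ u + pv σ v := rfl

theorem z2 (x : ZMod 2) : x = 0 ∨ x = 1 := by revert x; decide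
theorem z2_add (x : ZMod 2) : x + x = 0 := by revert x; decide
theorem z2_eq {x y : ZMod 2} (h : x + y = 0) : x = y := by revert x y; decide

theorem ev_add_self (v : Ev n) : v + v = 0 := by ext i; exact z2_add _

/-- The vector `e_a + e_b`. -/
def ee (a b : Fin n) : Ev n := ⟨Pi.single a 1 + Pi.single b 1, by
  simp only [mem_ev, Pi.add_apply, Finset.sum_add_distrib, Finset.sum_pi_single', Finset.mem_univ,
    if_true]; rfl⟩

theorem ee_apply (a b i : Fin n) :
    (ee a b).1 i = (if i = a then 1 else 0) + (if i = b then 1 else 0) := by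
  simp [ee, Pi.single_apply]

theorem pv_ee (σ : Perm (Fin n)) (a b : Fin n) : pv σ (ee a b) = ee (σ a) (σ b) := by
  ext i; simp only [pv_apply, ee_apply, Perm.inv_eq_iff_eq]

theorem ee_add (a b c : Fin n) : ee a b + ee b c = ee a c := by
  ext i
  simp only [Submodule.coe_add, Pi.add_apply, ee_apply]
  rw [add_assoc, ← add_assoc (if i = b then _ else _), z2_add, zero_add]

theorem ee_comm (a b : Fin n) : ee a b = ee b a := Subtype.ext (add_comm _ _)

theorem ee_self (a : Fin n) : ee a a = 0 := by ext i; rw [ee_apply]; exact z2_add _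

theorem ee_ne {a b : Fin n} (h : a ≠ b) : ee a b ≠ 0 := fun e => by
  have := congrArg (fun v : Ev n => v.1 a) e
  simp [ee_apply, h] at this

theorem ev_dec (a : Fin n) (v : Ev n) : v = ∑ i, v.1 i • ee i a := by
  ext j
  have : (∑ i, v.1 i • ee i a : Ev n).1 j = ∑ i, v.1 i * (ee i a).1 j := by
    rw [Submodule.coe_sum, Finset.sum_apply]; rfl
  rw [this]
  simp only [ee_apply, mul_add, Finset.sum_add_distrib, ← Finset.sum_mul, mem_ev.1 v.2]
  simp

theorem ev_induction (a : Fin n) (N : AddSubgroup (Ev n)) (h : ∀ i, ee i a ∈ N) : N = ⊤ := by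
  refine eq_top_iff.2 fun v _ => ?_
  rw [ev_dec a v]
  refine N.sum_mem fun i _ => ?_
  rcases z2 (v.1 i) with e | e <;> rw [e]
  · rw [zero_smul]; exact zero_mem _
  · rw [one_smul]; exact h i

theorem pv_inj (h3 : 3 ≤ n) : Function.Injective (pv : Perm (Fin n) →* _) := by
  refine (injective_iff_map_eq_one _).2 fun σ h => Equiv.ext fun a => ?_
  by_contra ne
  obtain ⟨b, hb⟩ : ∃ b, b ∉ ({a, σ⁻¹ a} : Finset (Fin n)) := by
    by_contra! e
    have := (Finset.card_le_card (fun b _ => e b : Finset.univ ⊆ _)).trans Finset.card_le_two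
    simp at this; omega
  simp only [Finset.mem_insert, Finset.mem_singleton, not_or] at hb
  have e := pv_ee σ a b
  rw [h] at e
  have := congrArg (fun v : Ev n => v.1 a) e
  have h1 : a ≠ σ b := fun e => hb.2 (by rw [e]; simp)
  have h2 : a ≠ σ a := Ne.symm ne
  simp [ee_apply, Ne.symm hb.1, h1, h2] at this

theorem exists_nonconst (hn : Odd n) {v : Ev n} (hv : v ≠ 0) : ∃ i j, v.1 i = 1 ∧ v.1 j = 0 := by
  obtain ⟨i, hi⟩ : ∃ i, v.1 i = 1 := by
    by_contra! e
    exact hv (Subtype.ext (funext fun i => (z2 _).resolve_right (e i)))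
  refine ⟨i, ?_⟩
  by_contra! e
  have := mem_ev.1 v.2
  rw [Finset.sum_congr rfl fun j _ => (z2 _).resolve_left (e j hi)] at this
  obtain ⟨k, rfl⟩ := hn
  simp only [Finset.sum_const, Finset.card_univ, Fintype.card_fin, nsmul_eq_mul, mul_one] at this
  rw [Nat.cast_add, Nat.cast_mul, show ((2 : ℕ) : ZMod 2) = 0 from rfl] at this
  simp at this

theorem exists_third (h3 : 3 ≤ n) (a b : Fin n) : ∃ c, c ≠ a ∧ c ≠ b := by
  by_contra! e
  have : (Finset.univ : Finset (Fin n)) ⊆ {a, b} := fun c _ => by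
    by_cases h : c = a
    · simp [h]
    · simp [e c h]
  have := (Finset.card_le_card this).trans Finset.card_le_two
  simp at this; omega

theorem swap_mul_mem {a b c d : Fin n} (h1 : a ≠ b) (h2 : c ≠ d) :
    swap a b * swap c d ∈ alternatingGroup (Fin n) := by
  simp [Perm.mem_alternatingGroup, h1, h2]

theorem pv_swap (a b : Fin n) (v : Ev n) : pv (swap a b) v = v + (v.1 a + v.1 b) • ee a b := by
  ext i
  have : (v + (v.1 a + v.1 b) • ee a b : Ev n).1 i = v.1 i + (v.1 a + v.1 b) * (ee a b).1 i := rfl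
  rw [this, pv_apply, swap_inv, ee_apply, swap_apply_def]
  have z : ∀ x y : ZMod 2, y = x + (x + y) ∧ x = y + (x + y) := by decide
  split_ifs with h1 h2 h2
  · rw [h1, ← h2, h1, z2_add, zero_mul, add_zero]
  · rw [h1, add_zero, mul_one]; exact (z _ _).1
  · rw [h2, zero_add, mul_one]; exact (z _ _).2
  · simp

/-- The even weight module is irreducible for the alternating group. -/
theorem ev_irr (hn : Odd n) (h3 : 3 ≤ n) (N : AddSubgroup (Ev n))
    (h : ∀ σ ∈ alternatingGroup (Fin n), ∀ v ∈ N, pv σ v ∈ N) {v : Ev n} (hv : v ∈ N)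
    (h0 : v ≠ 0) : N = ⊤ := by
  have k : ∀ a b, a ≠ b → ee a b ∈ N → N = ⊤ := fun a b hab e => ev_induction b N fun c => by
    by_cases h1 : c = a
    · rwa [h1]
    by_cases h2 : c = b
    · rw [h2, ee_self]; exact zero_mem _
    have := h _ (swap_mul_mem (Ne.symm h1) hab) _ e
    rwa [pv_ee, Perm.mul_apply, Perm.mul_apply, swap_apply_left, swap_apply_right,
      swap_apply_of_ne_of_ne hab.symm (Ne.symm h2), swap_apply_left, ee_comm] at this
  obtain ⟨i, j, hi, hj⟩ := exists_nonconst hn h0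
  have hij : i ≠ j := fun e => by rw [e, hj] at hi; exact zero_ne_one hi
  obtain ⟨c, c1, c2⟩ := exists_third h3 i j
  rcases z2 (v.1 c) with e | e
  · have := N.add_mem hv (h _ (swap_mul_mem hij c2) v hv)
    rw [map_mul, Perm.mul_apply, pv_swap c, e, hj, add_zero, zero_smul, add_zero, pv_swap, hi, hj,
      add_zero, one_smul, ← add_assoc, ev_add_self, zero_add] at this
    exact k i j hij this
  · have := N.add_mem hv (h _ (swap_mul_mem hij c1) v hv)
    rw [map_mul, Perm.mul_apply, pv_swap c, e, hi, z2_add, zero_smul, add_zero, pv_swap, hi, hj,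
      add_zero, one_smul, ← add_assoc, ev_add_self, zero_add] at this
    exact k i j hij this

/-- The vector with a single zero entry. -/
def vv (hn : Odd n) (a : Fin n) : Ev n := ⟨1 + Pi.single a 1, by
  obtain ⟨k, rfl⟩ := hn
  simp only [mem_ev, Pi.add_apply, Finset.sum_add_distrib, Finset.sum_pi_single', Finset.mem_univ,
    if_true, Pi.one_apply, Finset.sum_const, Finset.card_univ, Fintype.card_fin, nsmul_eq_mul,
    mul_one]
  rw [Nat.cast_add, Nat.cast_mul, show ((2 : ℕ) : ZMod 2) = 0 from rfl]; simp; rfl⟩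

theorem vv_apply (hn : Odd n) (a i : Fin n) : (vv hn a).1 i = 1 + if i = a then 1 else 0 := by
  simp [vv, Pi.single_apply]

theorem pv_vv (hn : Odd n) (σ : Perm (Fin n)) (a : Fin n) : pv σ (vv hn a) = vv hn (σ a) := by
  ext i; simp only [pv_apply, vv_apply, Perm.inv_eq_iff_eq]

theorem vv_add (hn : Odd n) (a b : Fin n) : vv hn a + vv hn b = ee a b := by
  ext i
  simp only [Submodule.coe_add, Pi.add_apply, vv_apply, ee_apply]
  rw [add_add_add_comm, z2_add, zero_add]

theorem vv_inj (hn : Odd n) : Function.Injective (vv hn) := fun a b e => by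
  by_contra h
  exact ee_ne h (by rw [← vv_add hn, e, ev_add_self])

theorem vv_ne (hn : Odd n) (h3 : 3 ≤ n) (a : Fin n) : vv hn a ≠ 0 := fun e => by
  obtain ⟨b, hb, -⟩ := exists_third h3 a a
  have := congrArg (fun v : Ev n => v.1 b) e
  simp [vv_apply, hb] at this

/-- The orbit of a vector under the alternating group. -/
def orb (v : Ev n) : Set (Ev n) := {w | ∃ σ ∈ alternatingGroup (Fin n), pv σ v = w}

theorem eq_vv (hn : Odd n) {v : Ev n} (h0 : v ≠ 0) (h : (orb v).ncard ≤ n) : ∃ a, v = vv hn a := by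
  classical
  obtain ⟨i, j, hi, hj⟩ := exists_nonconst hn h0
  by_cases e : ∀ k, v.1 k = 0 → k = j
  · refine ⟨j, Subtype.ext (funext fun k => ?_)⟩
    rw [vv_apply]
    split_ifs with h1
    · rw [h1, hj]; rfl
    · rw [add_zero]; exact (z2 _).resolve_left fun e' => h1 (e k e')
  exfalso
  push Not at e
  obtain ⟨k, hk, hkj⟩ := e
  set S := Finset.univ.filter fun a => v.1 a = 1
  set R := Finset.univ.filter fun a => ¬ v.1 a = 1
  have c1 : S.card + R.card = n := by
    rw [Finset.card_filter_add_card_filter_not]; simp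
  have c2 : (S.card : ZMod 2) = 0 := by
    rw [← mem_ev.1 v.2, ← Finset.sum_filter_add_sum_filter_not _ fun a => v.1 a = 1,
      Finset.sum_congr rfl fun a ha => (Finset.mem_filter.1 ha).2,
      Finset.sum_eq_zero fun a ha => (z2 _).resolve_right (Finset.mem_filter.1 ha).2]
    simp [S]
  have c3 : Even S.card := even_iff_two_dvd.2 ((ZMod.natCast_eq_zero_iff _ _).1 c2)
  have c4 : 0 < S.card := Finset.card_pos.2 ⟨i, by simp [S, hi]⟩
  have c5 : 2 ≤ R.card := by
    rw [← Finset.card_pair hkj]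
    exact Finset.card_le_card fun a ha => by
      rcases Finset.mem_insert.1 ha with rfl | ha
      · simp [R, hk]
      · simp [R, Finset.mem_singleton.1 ha, hj]
  have c6 : 2 ≤ S.card ∧ 3 ≤ R.card := by
    obtain ⟨a, ha⟩ := c3
    obtain ⟨b, hb⟩ := hn
    omega
  have m : ∀ a ∈ S, ∀ c ∈ R, v + ee a c ∈ orb v := fun a ha c hc => by
    have ha := (Finset.mem_filter.1 ha).2
    have hc := (z2 _).resolve_right (Finset.mem_filter.1 hc).2
    refine ⟨_, swap_mul_mem (a := a) (b := c) (fun e => by rw [e, hc] at ha; exact zero_ne_one ha)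
      hkj, ?_⟩
    rw [map_mul, Perm.mul_apply, pv_swap k, hk, hj, add_zero, zero_smul, add_zero, pv_swap, ha, hc,
      add_zero, one_smul]
  have c7 : (S ×ˢ R).card ≤ (orb v).ncard := by
    rw [← Set.ncard_coe_finset]
    refine Set.ncard_le_ncard_of_injOn (fun x => v + ee x.1 x.2) (fun x hx => m _
      (Finset.mem_product.1 hx).1 _ (Finset.mem_product.1 hx).2) ?_
    rintro ⟨a, c⟩ h1 ⟨a', c'⟩ h2 e
    simp only [Finset.coe_product, Set.mem_prod, Finset.mem_coe, S, R, Finset.mem_filter,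
      Finset.mem_univ, true_and] at h1 h2
    have e' : ee a c = ee a' c' := add_left_cancel e
    have n1 : a ≠ c := fun e => h1.2 (e ▸ h1.1)
    have n2 : a ≠ c' := fun e => h2.2 (e ▸ h1.1)
    have n3 : c ≠ a' := fun e => h1.2 (e ▸ h2.1)
    have e1 := congrArg (fun v : Ev n => v.1 a) e'
    have e2 := congrArg (fun v : Ev n => v.1 c) e'
    simp [ee_apply, n1, n2, n3, n1.symm] at e1 e2
    rw [e1, e2]
  rw [Finset.card_product] at c7
  nlinarith [c6.1, c6.2]

theorem ncard_orb_vv (hn : Odd n) (a : Fin n) : (orb (vv hn a)).ncard ≤ n := by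
  refine (Set.ncard_le_ncard (t := Set.range (vv hn)) ?_).trans ?_
  · rintro _ ⟨σ, -, rfl⟩; exact ⟨_, (pv_vv hn σ a).symm⟩
  · rw [Set.ncard_range_of_injective (vv_inj hn)]; simp

/-- The normalizer of the alternating group acts via the symmetric group. -/
theorem exists_perm (hn : Odd n) (h3 : 3 ≤ n) (a : Perm (Ev n)) (h1 : ∀ u v, a (u + v) = a u + a v)
    (h : ∀ σ ∈ alternatingGroup (Fin n), ∃ τ ∈ alternatingGroup (Fin n), a * pv τ = pv σ * a) :
    ∃ τ, a = pv τ := by
  have h0 : a 0 = 0 := by simpa using h1 0 0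
  have k : ∀ i, ∃ j, a (vv hn i) = vv hn j := fun i => eq_vv hn
    (fun e => vv_ne hn h3 i (a.injective (e.trans h0.symm))) (le_trans (by
      rw [← Set.ncard_image_of_injective (orb (vv hn i)) a.injective]
      refine Set.ncard_le_ncard ?_
      rintro _ ⟨σ, hσ, rfl⟩
      obtain ⟨τ, hτ, e⟩ := h σ hσ
      exact ⟨_, ⟨τ, hτ, rfl⟩, congrArg (fun f : Perm _ => f (vv hn i)) e⟩) (ncard_orb_vv hn i))
  choose f hf using k
  have inj : Function.Injective f := fun i j e => vv_inj hn (a.injective (by rw [hf, hf, e]))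
  refine ⟨Equiv.ofBijective f inj.bijective_of_finite, Equiv.ext fun v => ?_⟩
  let N : AddSubgroup (Ev n) :=
    { carrier := {v | a v = pv (Equiv.ofBijective f inj.bijective_of_finite) v}
      add_mem' := fun {u w} hu hw => by
        simp only [Set.mem_setOf_eq] at *; rw [h1, pv_add, hu, hw]
      zero_mem' := h0
      neg_mem' := fun {u} hu => by rwa [neg_eq_of_add_eq_zero_left (ev_add_self u)] }
  have : N = ⊤ := ev_induction ⟨0, by omega⟩ N fun i => by
    rw [← vv_add hn]
    have k : ∀ j, vv hn j ∈ N := fun j => (hf j).trans (pv_vv hn (Equiv.ofBijective f _) j).symm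
    exact N.add_mem (k _) (k _)
  exact (this.ge (AddSubgroup.mem_top v) :)

/-- The stabilizer of a point in the alternating group is generated by `3`-cycles. -/
theorem mem_of_three (K : Subgroup (Perm (Fin n))) (i : Fin n)
    (h : ∀ σ : Perm (Fin n), σ.IsThreeCycle → σ i = i → σ ∈ K) {τ : Perm (Fin n)}
    (h1 : τ ∈ alternatingGroup (Fin n)) (h2 : τ i = i) : τ ∈ K := by
  have a : ∀ x, τ x ≠ i ↔ x ≠ i := fun x => by
    rw [ne_eq, ← h2, τ.apply_eq_iff_eq, h2]
  have b : ∀ x, τ x ≠ x → x ≠ i := fun x hx e => hx (by rw [e, h2])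
  have c : τ.subtypePerm a ∈ alternatingGroup {x // x ≠ i} := by
    rw [Perm.mem_alternatingGroup, Perm.sign_subtypePerm τ a b]; exact h1
  rw [← Perm.closure_three_cycles_eq_alternating] at c
  rw [← Perm.ofSubtype_subtypePerm a b]
  refine (closure_le (K.comap Perm.ofSubtype)).2 (fun σ hσ => h _ ?_ ?_) c
  · exact Perm.cycleType_ofSubtype.trans hσ
  · exact Perm.ofSubtype_apply_of_not_mem σ (by simp)

/-- The fixed vectors. -/
def Fx (A : Subgroup (Perm (Fin n))) : AddSubgroup (Ev n) where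
  carrier := {v | ∀ a ∈ A, pv a v = v}
  add_mem' {u v} hu hv a ha := by rw [pv_add, hu a ha, hv a ha]
  zero_mem' _ _ := rfl
  neg_mem' {u} hu := by rwa [neg_eq_of_add_eq_zero_left (ev_add_self u)]

theorem mem_fx {A : Subgroup (Perm (Fin n))} {v : Ev n} :
    v ∈ Fx A ↔ ∀ a ∈ A, ∀ i, v.1 (a i) = v.1 i :=
  ⟨fun h a ha i => by
    have := congrArg (fun w : Ev n => w.1 (a i)) (h a ha)
    simpa [pv_apply] using this.symm,
  fun h a ha => Subtype.ext (funext fun i => h _ (inv_mem ha) i)⟩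

theorem fx_anti {A B : Subgroup (Perm (Fin n))} (h : A ≤ B) : Fx B ≤ Fx A :=
  fun _ hv a ha => hv a (h ha)

/-- The key step: stabilizer of a point. -/
theorem fx_step (A : Subgroup (Perm (Fin n))) (hc : ∀ a ∈ A, ∀ b ∈ A, a * b = b * a) {i : Fin n}
    (hi : ∀ a ∈ A, a i = i) (x : Fin n) :
    2 ^ ((MulAction.stabilizer (Perm (Fin n)) x).relIndex A - 1) ≤
      (Fx A).relIndex (Fx (A ⊓ MulAction.stabilizer (Perm (Fin n)) x)) := by
  classical
  let O := {y // (∃ a ∈ A, a x = y) ∧ y ≠ x}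
  have c1 : (MulAction.stabilizer (Perm (Fin n)) x).relIndex A - 1 ≤ Nat.card O := by
    have e : (MulAction.stabilizer (Perm (Fin n)) x).relIndex A =
        (MulAction.orbit A x).ncard := by
      rw [← MulAction.index_stabilizer]; rfl
    rw [e, ← Set.ncard_diff_singleton_of_mem (MulAction.mem_orbit_self x)]
    refine Nat.card_le_card_of_injective (fun y => ⟨y.1, ?_, y.2.2⟩) fun y z h =>
      Subtype.ext (congrArg (fun w : O => w.1) h)
    obtain ⟨a, ha⟩ := y.2.1
    exact ⟨a, a.2, ha⟩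
  have ni : ∀ y : O, y.1 ≠ i := by
    rintro ⟨y, ⟨a, ha, rfl⟩, h⟩ e
    exact h (e.trans (a.injective ((hi a ha).trans e.symm)))
  let f : (O → ZMod 2) → Ev n := fun c => ∑ y : O, c y • ee y.1 i
  have f1 : ∀ c, f c ∈ Fx (A ⊓ MulAction.stabilizer (Perm (Fin n)) x) := fun c =>
    AddSubgroup.sum_mem _ fun y _ => by
      rcases z2 (c y) with e | e <;> rw [e]
      · rw [zero_smul]; exact zero_mem _
      rw [one_smul]
      intro b hb
      obtain ⟨y, ⟨a, ha, rfl⟩, -⟩ := y
      have : b (a x) = a x := by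
        rw [← Perm.mul_apply, hc b hb.1 a ha, Perm.mul_apply]; exact congrArg a hb.2
      rw [pv_ee, hi b hb.1, this]
  have f2 : ∀ c j, j ≠ i → (f c).1 j = ∑ y : O, if j = y.1 then c y else 0 := fun c j hj => by
    rw [Submodule.coe_sum, Finset.sum_apply]
    exact Finset.sum_congr rfl fun y _ => by
      rw [Submodule.coe_smul, Pi.smul_apply, ee_apply]; simp [hj]
  have f3 : ∀ c (y : O), (f c).1 y = c y := fun c y => by
    rw [f2 c _ (ni y)]
    simp only [Subtype.val_inj]
    rw [Finset.sum_ite_eq]; simp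
  refine (Nat.pow_le_pow_right two_pos c1).trans ?_
  have : 2 ^ Nat.card O = Nat.card (O → ZMod 2) := by simp
  rw [this, AddSubgroup.relIndex, AddSubgroup.index]
  refine Nat.card_le_card_of_injective (fun c => QuotientAddGroup.mk ⟨f c, f1 c⟩) fun c d e => ?_
  have e' : -f c + f d ∈ Fx A := AddSubgroup.mem_addSubgroupOf.1 (QuotientAddGroup.eq.1 e)
  funext y
  obtain ⟨a, ha, hy⟩ := y.2.1
  have xi : x ≠ i := fun e => ni y (by rw [← hy, e, hi a ha])
  have f4 : ∀ c, (f c).1 x = 0 := fun c => by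
    rw [f2 c _ xi]; exact Finset.sum_eq_zero fun y _ => if_neg y.2.2.symm
  have := mem_fx.1 e' a ha x
  rw [hy] at this
  simp only [Submodule.coe_add, Submodule.coe_neg, Pi.add_apply, Pi.neg_apply, f3, f4] at this
  exact neg_add_eq_zero.1 (by simpa using this)

theorem exists_fixpt (hn : Odd n) (A : Subgroup (Perm (Fin n))) (hA : IsPGroup 2 A) :
    ∃ i, ∀ a ∈ A, a i = i := by
  obtain ⟨i, hi⟩ := hA.nonempty_fixed_point_of_prime_not_dvd_card (Fin n)
    (by simpa using hn.not_two_dvd_nat)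
  exact ⟨i, fun a ha => hi ⟨a, ha⟩⟩

theorem fx_index_mul {A B : Subgroup (Perm (Fin n))} (h : A ≤ B) :
    (Fx B).relIndex (Fx A) * (Fx A).index = (Fx B).index :=
  AddSubgroup.relIndex_mul_index (fx_anti h)

/-- There are no over-offenders. -/
theorem card_le_fx {i : Fin n} (A : Subgroup (Perm (Fin n))) :
    (∀ a ∈ A, ∀ b ∈ A, a * b = b * a) → (∀ a ∈ A, a i = i) → Nat.card A ≤ (Fx A).index := by
  induction A using WellFoundedLT.induction with
  | ind A ih =>
  intro hc hi
  by_cases e : A = ⊥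
  · rw [e, card_bot]; exact Nat.pos_of_ne_zero AddSubgroup.index_ne_zero_of_finite
  obtain ⟨⟨a, ha⟩, h1⟩ := ne_bot_iff_exists_ne_one.1 e
  obtain ⟨x, hx⟩ : ∃ x, a x ≠ x := by
    by_contra! h; exact h1 (Subtype.ext (Equiv.ext h))
  have h2 := ih (A ⊓ MulAction.stabilizer (Perm (Fin n)) x) (lt_of_le_of_ne inf_le_left fun e =>
    hx (e.ge ha).2) (fun a ha b hb => hc a ha.1 b hb.1) fun a ha => hi a ha.1
  have h3 := fx_step A hc hi x
  rw [← fx_index_mul (inf_le_left : A ⊓ MulAction.stabilizer (Perm (Fin n)) x ≤ A),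
    ← LocalEven.card_inf_mul_relIndex (MulAction.stabilizer (Perm (Fin n)) x), inf_comm, mul_comm]
  refine Nat.mul_le_mul (le_trans ?_ h3) h2
  generalize (MulAction.stabilizer (Perm (Fin n)) x).relIndex A = m
  have := @Nat.lt_two_pow_self (m - 1)
  omega

/-- Offenders are generated by transpositions. -/
theorem swap_mem_of_off {i : Fin n} (A : Subgroup (Perm (Fin n)))
    (hc : ∀ a ∈ A, ∀ b ∈ A, a * b = b * a) (hs : ∀ a ∈ A, a * a = 1) (hi : ∀ a ∈ A, a i = i)
    (ho : (Fx A).index ≤ Nat.card A) : ∀ a ∈ A, ∀ x, swap x (a x) ∈ A := by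
  intro a ha x
  by_cases hx : a x = x
  · rw [hx, swap_self]; exact one_mem _
  set A₁ := A ⊓ MulAction.stabilizer (Perm (Fin n)) x with hA₁
  have c1 : ∀ a ∈ A₁, ∀ b ∈ A₁, a * b = b * a := fun a ha b hb => hc a ha.1 b hb.1
  have h2 := card_le_fx A₁ c1 fun a ha => hi a ha.1
  have h3 := fx_step A hc hi x
  have h4 := fx_index_mul (inf_le_left : A₁ ≤ A)
  have h5 := LocalEven.card_inf_mul_relIndex (MulAction.stabilizer (Perm (Fin n)) x) A
  rw [inf_comm, ← hA₁] at h5
  rw [← hA₁] at h3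
  set m := (MulAction.stabilizer (Perm (Fin n)) x).relIndex A with hm
  set r := (Fx A).relIndex (Fx A₁) with hr
  have p1 : 0 < Nat.card A₁ := Nat.card_pos
  have h6 : r * (Fx A₁).index ≤ m * Nat.card A₁ := by rw [h4, mul_comm, h5]; exact ho
  have h7 : r ≤ m := Nat.le_of_mul_le_mul_right ((Nat.mul_le_mul_left _ h2).trans h6) p1
  have h8 : m ≤ 2 := by
    by_contra! h
    obtain ⟨k, hk⟩ : ∃ k, m = k + 3 := ⟨m - 3, by omega⟩
    have := @Nat.lt_two_pow_self k
    rw [hk, show k + 3 - 1 = k + 2 by omega, pow_add] at h3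
    omega
  have ax : a (a x) = x := by rw [← Perm.mul_apply, hs a ha]; rfl
  have xi : x ≠ i := fun e => hx (by rw [e, hi a ha])
  have yi : a x ≠ i := fun e => xi (a.injective (e.trans (hi a ha).symm))
  have fy : ∀ b ∈ A₁, b (a x) = a x := fun b hb => by
    rw [← Perm.mul_apply, hc b hb.1 a ha, Perm.mul_apply]; exact congrArg a hb.2
  have u1 : ee (a x) i ∈ Fx A₁ := fun b hb => by rw [pv_ee, fy b hb, hi b hb.1]
  have u2 : ee (a x) i ∉ Fx A := fun h => by
    have := mem_fx.1 h a ha x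
    simp [ee_apply, xi, yi, Ne.symm hx] at this
  have r2 : r = 2 := by
    have : r ≠ 1 := fun e => u2 (AddSubgroup.relIndex_eq_one.1 e u1)
    have : r ≠ 0 := AddSubgroup.index_ne_zero_of_finite
    omega
  set b := a * swap x (a x) with hb
  have b1 : b x = x := by rw [hb, Perm.mul_apply, swap_apply_left, ax]
  have b2 : b (a x) = a x := by rw [hb, Perm.mul_apply, swap_apply_right]
  have b3 : b i = i := by
    rw [hb, Perm.mul_apply, swap_apply_of_ne_of_ne xi.symm yi.symm, hi a ha]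
  have b4 : ∀ d ∈ A₁, d * b = b * d := fun d hd => by
    have : d * swap x (a x) = swap x (a x) * d := by
      rw [← mul_inv_eq_iff_eq_mul, ← swap_apply_apply, fy d hd]; exact congrArg (swap · _) hd.2
    rw [hb, ← mul_assoc, hc d hd.1 a ha, mul_assoc, this, mul_assoc]
  have b5 : ∀ v ∈ Fx A₁, pv b v = v := fun v hv => by
    have k : ∀ v ∈ Fx A, pv b v = v := fun v hv => by
      rw [hb, map_mul, Perm.mul_apply, pv_swap, mem_fx.1 hv a ha, z2_add, zero_smul, add_zero,
        hv a ha]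
    by_cases h : v ∈ Fx A
    · exact k v h
    have := (AddSubgroup.add_mem_iff_of_index_two (H := (Fx A).addSubgroupOf (Fx A₁)) r2
      (a := ⟨v, hv⟩) (b := ⟨_, u1⟩)).2 ⟨fun e => (h e).elim, fun e => (u2 e).elim⟩
    have e := k (v + ee (a x) i) this
    rwa [pv_add, pv_ee, b2, b3, add_left_inj] at e
  have b6 : b ∈ A₁ := by
    have cz : A₁ ⊔ zpowers b ≤ centralizer (A₁ ⊔ zpowers b : Subgroup _) := by
      have z1 : A₁ ≤ centralizer (zpowers b : Set _) := by
        rw [le_centralizer_iff, zpowers_le]; exact fun d hd => b4 d hd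
      refine sup_le (le_centralizer_iff.1 (sup_le (fun d hd e he => c1 e he d hd)
        (le_centralizer_iff.1 z1))) (le_centralizer_iff.1 (sup_le z1 ?_))
      rw [le_centralizer_iff, zpowers_le]
      rintro _ ⟨k, rfl⟩; exact (Commute.refl b).zpow_left k
    have k1 := card_le_fx (i := i) (A₁ ⊔ zpowers b) (fun d hd e he => cz he d hd) fun d hd =>
      (sup_le (fun d (hd : d ∈ A₁) => hi d hd.1) (zpowers_le.2 b3) :
        A₁ ⊔ zpowers b ≤ MulAction.stabilizer (Perm (Fin n)) i) hd
    have k2 : Fx (A₁ ⊔ zpowers b) = Fx A₁ := le_antisymm (fx_anti le_sup_left) fun v hv d hd =>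
      (sup_le (fun d (hd : d ∈ A₁) => hv d hd) (zpowers_le.2 (b5 v hv)) :
        A₁ ⊔ zpowers b ≤ (MulAction.stabilizer (Perm (Ev n)) v).comap pv) hd
    rw [k2] at k1
    have : A₁ = A₁ ⊔ zpowers b := eq_of_le_of_card_ge le_sup_left (k1.trans (by
      rw [r2] at h6; nlinarith))
    exact this.ge (mem_sup_right (mem_zpowers b))
  have : swap x (a x) = a⁻¹ * b := by rw [hb]; group
  rw [this]; exact mul_mem (inv_mem ha) b6.1

end Cfsg.Agent.BHS
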