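import Cfsg.Agent.BHS.SL
import Mathlib.GroupTheory.PGroup

/-! Offenders in `ΓL₂(F)`. -/

namespace Cfsg.Agent.BHS

open Subgroup Cfsg.Agent.Classical.SL2Basic
open scoped MatrixGroups

theorem card_le_of_fib {H S : Type*} [Group H] [Finite S] {A A₀ : Subgroup H} [Finite A₀]
    (f : H → S) (h : ∀ a ∈ A, ∀ b ∈ A, f a = f b → a⁻¹ * b ∈ A₀) :
    Nat.card A ≤ Nat.card S * Nat.card A₀ := by
  rw [← Nat.card_prod]
  let f' : A → S := fun a => f a
  let s : A → A := fun a => Function.invFun f' (f' a)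
  have hs : ∀ a, f' (s a) = f' a := fun a => Function.invFun_eq ⟨a, rfl⟩
  refine Nat.card_le_card_of_injective (fun a : A => (f' a,
    (⟨(s a : H)⁻¹ * a, h _ (s a).2 _ a.2 (hs a)⟩ : A₀))) fun a b e => ?_
  have e1 : f' a = f' b := congrArg Prod.fst e
  have e2 : (s a : H)⁻¹ * a = (s b : H)⁻¹ * b := congrArg (fun x => (x.2 : H)) e
  have : s a = s b := by simp only [s, e1]
  rw [this] at e2
  exact Subtype.ext (mul_left_cancel e2)

variable {F : Type*} [Field F] {p : ℕ}

theorem dec_dt {x y : Fin 2 → F} (h : dt x y = 1) (v : Fin 2 → F) : v = dt v y • x + dt x v • y := by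
  simp only [dt] at h ⊢
  exact vec_ext (by simp; linear_combination (-v 0) * h) (by simp; linear_combination (-v 1) * h)

theorem dt_self (x : Fin 2 → F) : dt x x = 0 := by simp only [dt]; ring

theorem dt_comb (x u v : Fin 2 → F) (c d : F) : dt x (c • u + d • v) = c * dt x u + d * dt x v := by
  simp only [dt, Pi.add_apply, Pi.smul_apply, smul_eq_mul]; ring

theorem dt_comb' (x u v : Fin 2 → F) (c d : F) : dt (c • u + d • v) x = c * dt u x + d * dt v x := by
  simp only [dt, Pi.add_apply, Pi.smul_apply, smul_eq_mul]; ring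

theorem exists_dt {x : Fin 2 → F} (hx : x ≠ 0) : ∃ y, dt x y = 1 := by
  obtain ⟨g, rfl⟩ := exists_mv hx
  exact ⟨mv g e1, by rw [dt_mv]; simp [dt]⟩

theorem mv_of_fix {x y : Fin 2 → F} (h : dt x y = 1) {g : SL(2, F)} (hg : mv g x = x)
    (v : Fin 2 → F) : mv g v = v + (dt (mv g y) y * dt x v) • x := by
  have h1 : dt x (mv g y) = 1 := by rw [← h, ← dt_mv g x y, hg]
  have h2 := dec_dt h (mv g y)
  rw [h1] at h2
  conv_lhs => rw [dec_dt h v, mv_add, mv_smul, mv_smul, hg, h2]
  conv_rhs => rw [dec_dt h v]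
  rw [dt_comb, dt_self, h]
  module

theorem eq_smul_of_dt {x y v : Fin 2 → F} (h : dt x y = 1) (hv : dt x v = 0) : v = dt v y • x := by
  have := dec_dt h v
  rwa [hv, zero_smul, add_zero] at this

theorem card_fix_sq_le [Fintype F] (θ : F →+* F) {y : F} (hy : θ y ≠ y) :
    Nat.card {c // θ c = c} * Nat.card {c // θ c = c} ≤ Fintype.card F := by
  rw [← Nat.card_prod, ← Nat.card_eq_fintype_card]
  refine Nat.card_le_card_of_injective (fun x => (x.1 : F) + x.2 * y) ?_
  rintro ⟨⟨a, ha⟩, ⟨b, hb⟩⟩ ⟨⟨c, hc⟩, ⟨d, hd⟩⟩ e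
  simp only at e
  have e' := congrArg θ e
  simp only [map_add, map_mul, ha, hb, hc, hd] at e'
  have : (b - d) * (θ y - y) = 0 := by linear_combination e' - e
  obtain rfl : b = d := sub_eq_zero.1 ((mul_eq_zero.1 this).resolve_right (sub_ne_zero.2 hy))
  obtain rfl : a = c := add_right_cancel e
  rfl

/-- There are no over-offenders in `ΓL₂(F)`, and the offenders are the full unipotent groups. -/
theorem off_lin [Fintype F] [hp : Fact p.Prime] [CharP F p] (A : Subgroup (Equiv.Perm (Fin 2 → F)))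
    (hadd : ∀ a ∈ A, ∀ u v, a (u + v) = a u + a v)
    (hsemi : ∀ a ∈ A, ∃ θ : F →+* F, ∀ c v, a (c • v) = θ c • a v)
    (hcomm : ∀ a ∈ A, ∀ b ∈ A, a * b = b * a) (hpow : ∀ a ∈ A, a ^ p = 1) (ne : A ≠ ⊥) :
    Nat.card A * Nat.card {v // ∀ a ∈ A, a v = v} ≤ Fintype.card F ^ 2 ∧
      (Nat.card A * Nat.card {v // ∀ a ∈ A, a v = v} = Fintype.card F ^ 2 → ∃ x ≠ 0,
        (∀ v, (∀ a ∈ A, a v = v) ↔ ∃ c : F, v = c • x) ∧
        ∀ g : SL(2, F), mv g x = x → ∃ a ∈ A, ∀ v, a v = mv g v) := by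
  classical
  have h0 : ∀ a ∈ A, a 0 = 0 := fun a ha => by simpa using hadd a ha 0 0
  have hA : IsPGroup p A := fun a => ⟨1, Subtype.ext (by simpa using hpow a a.2)⟩
  obtain ⟨x, hx, hx0⟩ := hA.exists_fixed_point_of_prime_dvd_card_of_fixed_point (Fin 2 → F)
    (by
      obtain ⟨n, -, e⟩ := FiniteField.card F p
      rw [Nat.card_eq_fintype_card, Fintype.card_fun, e, ← pow_mul]
      exact dvd_pow_self p (by simp)) (a := 0) (fun a => h0 a a.2)
  have fx : ∀ a ∈ A, a x = x := fun a ha => hx ⟨a, ha⟩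
  obtain ⟨y, hy⟩ := exists_dt hx0.symm
  have lin : ∀ a ∈ A, (∀ (c : F) v, a (c • v) = c • a v) →
      ∀ v, a v = v + (dt (a y) y * dt x v) • x := fun a ha hl v => by
    obtain ⟨g, hg⟩ := exists_sl_of_pow (p := p) a (hadd a ha) hl (k := 1) (by simpa using hpow a ha)
    rw [hg, hg, ← mv_of_fix hy ((hg x).symm.trans (fx a ha))]
  have linj : ∀ a ∈ A, ∀ b ∈ A, (∀ (c : F) v, a (c • v) = c • a v) →
      (∀ (c : F) v, b (c • v) = c • b v) → dt (a y) y = dt (b y) y → a = b :=
    fun a ha b hb h1 h2 e => Equiv.ext fun v => by rw [lin a ha h1 v, lin b hb h2 v, e]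
  have fixl : ∀ a ∈ A, a ≠ 1 → (∀ (c : F) v, a (c • v) = c • a v) → dt (a y) y ≠ 0 ∧
      ∀ v, a v = v → v = dt v y • x := fun a ha h1 hl => by
    have b0 : dt (a y) y ≠ 0 := fun e => h1 (linj a ha 1 (one_mem _) hl (fun _ _ => rfl)
      (by rw [e]; exact (dt_self y).symm))
    refine ⟨b0, fun v hv => eq_smul_of_dt hy ?_⟩
    rw [lin a ha hl v, add_eq_left, smul_eq_zero, mul_eq_zero] at hv
    exact (hv.resolve_right hx0.symm).resolve_left b0
  by_cases hl : ∀ a ∈ A, ∀ (c : F) v, a (c • v) = c • a v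
  · obtain ⟨⟨a, ha⟩, h1⟩ := (ne_bot_iff_exists_ne_one).1 ne
    have h1' : a ≠ 1 := fun e => h1 (Subtype.ext e)
    have fe : ∀ v, (∀ a ∈ A, a v = v) ↔ ∃ c : F, v = c • x := fun v =>
      ⟨fun h => ⟨_, (fixl a ha h1' (hl a ha)).2 v (h a ha)⟩, by
        rintro ⟨c, rfl⟩ b hb; rw [hl b hb, fx b hb]⟩
    have c1 : Nat.card {v // ∀ a ∈ A, a v = v} = Fintype.card F := by
      rw [← Nat.card_eq_fintype_card]
      refine (Nat.card_eq_of_bijective (fun c : F => ⟨c • x, (fe _).2 ⟨c, rfl⟩⟩)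
        ⟨fun c d e => smul_left_injective F hx0.symm (congrArg Subtype.val e), fun v => ?_⟩).symm
      obtain ⟨c, hc⟩ := (fe _).1 v.2
      exact ⟨c, Subtype.ext hc.symm⟩
    have inj : Function.Injective fun a : A => dt ((a : Equiv.Perm _) y) y := fun a b e =>
      Subtype.ext (linj a a.2 b b.2 (hl a a.2) (hl b b.2) e)
    have c2 := Nat.card_le_card_of_injective _ inj
    rw [Nat.card_eq_fintype_card (α := F)] at c2
    rw [c1, sq]
    refine ⟨Nat.mul_le_mul_right _ c2, fun e => ⟨x, hx0.symm, fe, fun g hg => ?_⟩⟩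
    have e' := Nat.eq_of_mul_eq_mul_right Fintype.card_pos e
    obtain ⟨b, hb⟩ := (inj.bijective_of_nat_card_le (by rw [e', Nat.card_eq_fintype_card])).2
      (dt (mv g y) y)
    exact ⟨b, b.2, fun v => by rw [lin b b.2 (hl b b.2), mv_of_fix hy hg, ← hb]⟩
  suffices k : Nat.card A * Nat.card {v // ∀ a ∈ A, a v = v} < Fintype.card F ^ 2 from
    ⟨k.le, fun e => (k.ne e).elim⟩
  push Not at hl
  obtain ⟨a, ha, c₀, v₀, hc₀⟩ := hl
  choose! θ hθ using hsemi
  have hy0 : θ a c₀ ≠ c₀ := fun e => hc₀ (by rw [hθ a ha, e])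
  have hr := card_fix_sq_le (θ a) hy0
  set r := Nat.card {c // θ a c = c}
  let A₀ : Subgroup (Equiv.Perm (Fin 2 → F)) :=
    { carrier := {b | b ∈ A ∧ ∀ (c : F) v, b (c • v) = c • b v}
      mul_mem' := fun {b d} hb hd => ⟨mul_mem hb.1 hd.1, fun c v => by
        rw [Equiv.Perm.mul_apply, Equiv.Perm.mul_apply, hd.2, hb.2]⟩
      one_mem' := ⟨one_mem _, fun _ _ => rfl⟩
      inv_mem' := fun {b} hb => ⟨inv_mem hb.1, fun c v => b.injective (by rw [hb.2]; simp)⟩ }
  obtain ⟨γ, hγ⟩ := IsCyclic.exists_generator (α := Fˣ)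
  have c1 : Nat.card A ≤ Nat.card Fˣ * Nat.card A₀ := card_le_of_fib
    (fun b => Units.map (θ b : F →* F) γ) fun b hb d hd e => ⟨mul_mem (inv_mem hb) hd, fun c v => by
      have : θ b c = θ d c := by
        by_cases hc : c = 0
        · simp [hc]
        obtain ⟨n, hn⟩ := mem_zpowers_iff.1 (hγ (Units.mk0 c hc))
        have e1 : θ b γ = θ d γ := congrArg Units.val e
        have e2 : c = (γ : F) ^ n := by simpa using (congrArg Units.val hn).symm
        rw [e2, map_zpow₀, map_zpow₀, e1]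
      refine b.injective ?_
      rw [hθ b hb, this]
      simp [hθ d hd]⟩
  have fc : ∀ c : F, a (c • x) = c • x → θ a c = c := fun c e => by
    rw [hθ a ha, fx a ha] at e
    exact smul_left_injective F hx0.symm e
  have c2 : Nat.card A₀ * Nat.card {v // ∀ a ∈ A, a v = v} ≤ r * r := by
    by_cases e : A₀ = ⊥
    · rw [e, card_bot, one_mul, ← Nat.card_prod]
      by_cases h : ∃ z, a z = z ∧ dt x z ≠ 0
      · obtain ⟨z, hz, hz0⟩ := h
        have d : ∀ v, v = (dt v z / dt x z) • x + (dt x v / dt x z) • z := fun v => by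
          have := dec_dt (x := x) (y := (dt x z)⁻¹ • z) (by
            simp only [dt, Pi.smul_apply, smul_eq_mul] at hz0 ⊢; field_simp) v
          refine this.trans ?_
          rw [smul_smul]
          congr 2
          · simp only [dt, Pi.smul_apply, smul_eq_mul]; ring
          · rw [div_eq_mul_inv]
        have k : ∀ v, a v = v → θ a (dt v z / dt x z) = dt v z / dt x z ∧
            θ a (dt x v / dt x z) = dt x v / dt x z := fun v hv => by
          have e := hv
          rw [d v, hadd a ha, hθ a ha, hθ a ha, fx a ha, hz] at e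
          have e1 := congrArg (dt · z) e
          have e2 := congrArg (dt x) e
          simp only [dt_comb, dt_comb', dt_self, mul_zero, add_zero, zero_add] at e1 e2
          exact ⟨mul_right_cancel₀ hz0 e1, mul_right_cancel₀ hz0 e2⟩
        refine Nat.card_le_card_of_injective (fun v => (⟨_, (k v (v.2 a ha)).1⟩,
          ⟨_, (k v (v.2 a ha)).2⟩)) fun v w e => Subtype.ext ?_
        have e1 : dt v z / dt x z = dt w z / dt x z := congrArg (fun x => x.1.1) e
        have e2 : dt x v / dt x z = dt x w / dt x z := congrArg (fun x => x.2.1) e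
        rw [d v, d w, e1, e2]
      · push Not at h
        have k : ∀ v, a v = v → v = dt v y • x := fun v hv => eq_smul_of_dt hy (h v hv)
        refine Nat.card_le_card_of_injective (fun v => (⟨dt v.1 y, fc _ (by
          rw [← k v (v.2 a ha)]; exact v.2 a ha)⟩, ⟨0, map_zero _⟩)) fun v w e => Subtype.ext ?_
        have e1 : dt v y = dt w y := congrArg (fun x => x.1.1) e
        rw [k v (v.2 a ha), k w (w.2 a ha), e1]
    · obtain ⟨⟨u, hu⟩, h1⟩ := (ne_bot_iff_exists_ne_one).1 e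
      obtain ⟨b0, k⟩ := fixl u hu.1 (fun e => h1 (Subtype.ext e)) hu.2
      have rel : ∀ w ∈ A₀, θ a (dt (w y) y) = dt (w y) y * dt x (a y) := fun w hw => by
        have e : a (w y) = w (a y) := congrArg (fun f : Equiv.Perm _ => f y) (hcomm a ha w hw.1)
        have e1 := lin w hw.1 hw.2 y
        have e2 := lin w hw.1 hw.2 (a y)
        generalize dt (w y) y = β at e1 e2 ⊢
        rw [e2, e1, hadd a ha, hθ a ha, fx a ha, hy, mul_one, add_right_inj] at e
        exact smul_left_injective F hx0.symm e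
      have d0 : dt x (a y) ≠ 0 := fun e => b0 ((map_eq_zero (θ a)).1 (by rw [rel u hu, e, mul_zero]))
      refine Nat.mul_le_mul (Nat.card_le_card_of_injective (fun w => ⟨dt (w.1 y) y / dt (u y) y, by
        rw [map_div₀, rel w w.2, rel u hu]; field_simp⟩) fun v w e => Subtype.ext ?_)
        (Nat.card_le_card_of_injective (fun v => ⟨dt v.1 y, fc _ (by
          rw [← k v (v.2 u hu.1)]; exact v.2 a ha)⟩) fun v w e => Subtype.ext ?_)
      · exact linj _ v.2.1 _ w.2.1 v.2.2 w.2.2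
          ((div_left_inj' b0).1 (congrArg Subtype.val e))
      · have e1 : dt v y = dt w y := congrArg Subtype.val e
        rw [k v (v.2 u hu.1), k w (w.2 u hu.1), e1]
  have c3 : Nat.card Fˣ < Fintype.card F := by
    rw [Nat.card_units, Nat.card_eq_fintype_card]
    exact Nat.sub_lt Fintype.card_pos one_pos
  calc _ ≤ Nat.card Fˣ * Nat.card A₀ * _ := Nat.mul_le_mul_right _ c1
    _ ≤ Nat.card Fˣ * Fintype.card F := by
      rw [mul_assoc]; exact Nat.mul_le_mul_left _ (c2.trans hr)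
    _ < _ := by rw [sq]; exact Nat.mul_lt_mul_of_pos_right c3 Fintype.card_pos

end Cfsg.Agent.BHS
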