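import Cfsg.Agent.BHS.Sec
import Cfsg.Agent.BHS.SLOff
import Cfsg.Agent.BHS.PermM

/-! Natural modules on sections. -/

namespace Cfsg.Agent.BHS

open Subgroup Cfsg.Agent.LocalEven Cfsg.Agent.Glaub Equiv
open scoped commutatorElement MatrixGroups

variable {G : Type*} [Group G] {p : ℕ} {E W Z A N : Subgroup G} {X : Type*} [AddCommGroup X]
  {ψ : G → X} {g u v : G} {R : Subgroup (Perm X)}

/-- `E` acts on `W / Z = X` as the group `R`. -/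
structure Mdl (E W Z : Subgroup G) (ψ : G → X) (R : Subgroup (Perm X)) : Prop
    extends Sec W Z ψ where
  nW : E ≤ 𝐍⟮W⟯
  nZ' : E ≤ 𝐍⟮Z⟯
  mem : ∀ e ∈ E, act W ψ e ∈ R
  onto : ∀ r ∈ R, ∃ e ∈ E, act W ψ e = r

/-- The natural action of `SL₂(F)`. -/
def mvP {F : Type*} [Field F] : SL(2, F) →* Perm (Fin 2 → F) where
  toFun g := ⟨mv g, mv g⁻¹, mv_inv_mv g, mv_mv_inv g⟩
  map_one' := Equiv.ext mv_one
  map_mul' g h := Equiv.ext (mv_mul g h)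

theorem mvP_apply {F : Type*} [Field F] (g : SL(2, F)) (v : Fin 2 → F) : mvP g v = mv g v := rfl

theorem mvP_inj {F : Type*} [Field F] : Function.Injective (mvP : SL(2, F) →* _) :=
  fun _ _ e => eq_of_mv fun v => congrArg (fun f : Perm _ => f v) e

/-- The derived group of `SL₂(F)` as a permutation group. -/
abbrev RL (F : Type*) [Field F] : Subgroup (Perm (Fin 2 → F)) := (commutator SL(2, F)).map mvP

/-- The alternating group acting on the even weight module. -/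
abbrev RP (n : ℕ) : Subgroup (Perm (Ev n)) := (alternatingGroup (Fin n)).map pv

namespace Mdl

theorem im_eq (h : Mdl E W Z ψ R) : h.im E = R := by
  ext a
  rw [h.mem_im h.nW h.nZ']
  exact ⟨by rintro ⟨e, he, rfl⟩; exact h.mem e he, h.onto a⟩

theorem relIndex_cent (h : Mdl E W Z ψ R) : (centMod W Z).relIndex E = Nat.card R := by
  rw [← h.card_im h.nW h.nZ', h.im_eq]

theorem norm (h : Mdl E W Z ψ R) (h0 : g ∈ 𝐍⟮E⟯) (h1 : g ∈ 𝐍⟮W⟯) (h2 : g ∈ 𝐍⟮Z⟯) :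
    ∀ r ∈ R, ∃ s ∈ R, act W ψ g * s = r * act W ψ g := fun r hr => by
  obtain ⟨e, he, rfl⟩ := h.onto r hr
  have k := inv_conj_mem_of_mem_normalizer h0 he
  refine ⟨_, h.mem _ k, ?_⟩
  rw [← h.act_mul h1 h2 (h.nW k) (h.nZ' k), ← h.act_mul (h.nW he) (h.nZ' he) h1 h2]
  congr 1; group

theorem irr (h : Mdl E W Z ψ R) (hi : ∀ Y : AddSubgroup X, (∀ r ∈ R, ∀ v ∈ Y, r v ∈ Y) →
    ∀ v ∈ Y, v ≠ 0 → Y = ⊤) (h1 : N ≤ W) (h2 : E ≤ 𝐍⟮N⟯) (h3 : ¬ N ≤ Z) : W ≤ N ⊔ Z := by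
  obtain ⟨u, hu, hu'⟩ := SetLike.not_le_iff_exists.1 h3
  have := hi (h.img N) (fun r hr v hv => by
    obtain ⟨e, he, rfl⟩ := h.onto r hr
    obtain ⟨w, hw, rfl⟩ := (h.mem_img h1).1 hv
    exact (h.mem_img h1).2 ⟨_, conj_mem_of_mem_normalizer (h2 he) hw,
      (h.act_apply (h.nW he) (h.nZ' he) (h1 hw)).symm⟩) _ ((h.mem_img h1).2 ⟨u, hu, rfl⟩)
    fun e => hu' ((h.ker u (h1 hu)).1 e)
  exact h.le_sup_of h1 fun x => (h.mem_img h1).1 (this.ge (AddSubgroup.mem_top x))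

theorem sub (h : Mdl E W Z ψ R) (hN : N ≤ W) (e : W ≤ N ⊔ Z) (hn : E ≤ 𝐍⟮N⟯) :
    Mdl E N (N ⊓ Z) ψ R := by
  have s := h.toSec.sub hN e
  have k : ∀ e ∈ E, act N ψ e = act W ψ e := fun e he => Equiv.ext
    (s.act_eq (hn he) (le_normalizer_inf hn h.nZ' he) fun u hu =>
      (h.act_apply (h.nW he) (h.nZ' he) (hN hu)).symm)
  exact ⟨s, hn, le_normalizer_inf hn h.nZ', fun e he => k e he ▸ h.mem e he, fun r hr => by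
    obtain ⟨e, he, rfl⟩ := h.onto r hr
    exact ⟨e, he, k e he⟩⟩

end Mdl

theorem Sec.mem_centMod (h : Sec W Z ψ) (h1 : A ≤ 𝐍⟮W⟯) (h2 : A ≤ 𝐍⟮Z⟯) (hu : u ∈ W) :
    u ∈ centMod A Z ↔ ∀ a ∈ A, act W ψ a (ψ u) = ψ u := by
  rw [LocalEven.mem_centMod, and_iff_right (h.nZ hu)]
  exact forall₂_congr fun a ha => (h.fix_iff (h1 ha) (h2 ha) hu).symm

/-- The fixed points of a group acting on a section. -/
def Sec.fix (h : Sec W Z ψ) (h1 : A ≤ 𝐍⟮W⟯) (h2 : A ≤ 𝐍⟮Z⟯) : AddSubgroup X where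
  carrier := {v | ∀ a ∈ h.im A, a v = v}
  add_mem' {u v} hu hv a ha := by
    have k1 := hu a ha
    have k2 := hv a ha
    obtain ⟨g, hg, rfl⟩ := (h.mem_im h1 h2).1 ha
    rw [h.act_add (h1 hg) (h2 hg), k1, k2]
  zero_mem' a ha := by
    obtain ⟨g, hg, rfl⟩ := (h.mem_im h1 h2).1 ha
    exact h.act_zero (h1 hg) (h2 hg)
  neg_mem' {u} hu a ha := by
    have k1 := hu a ha
    obtain ⟨g, hg, rfl⟩ := (h.mem_im h1 h2).1 ha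
    rw [h.act_neg (h1 hg) (h2 hg), k1]

theorem Sec.relIndex_fix (h : Sec W Z ψ) (h1 : A ≤ 𝐍⟮W⟯) (h2 : A ≤ 𝐍⟮Z⟯) :
    (centMod A Z).relIndex W = (h.fix h1 h2).index :=
  h.relIndex_eq _ fun u hu => (h.mem_centMod h1 h2 hu).trans
    ⟨fun k a ha => by obtain ⟨g, hg, rfl⟩ := (h.mem_im h1 h2).1 ha; exact k g hg,
      fun k a ha => k _ ((h.mem_im h1 h2).2 ⟨a, ha, rfl⟩)⟩

theorem Sec.im_ea (h : Sec W Z ψ) (h1 : A ≤ 𝐍⟮W⟯) (h2 : A ≤ 𝐍⟮Z⟯) (hA : IsElementaryAbelian p A) :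
    (∀ a ∈ h.im A, ∀ b ∈ h.im A, a * b = b * a) ∧ ∀ a ∈ h.im A, a ^ p = 1 := by
  refine ⟨fun _ ha' _ hb' => ?_, fun _ ha' => ?_⟩
  · obtain ⟨a, ha, rfl⟩ := (h.mem_im h1 h2).1 ha'
    obtain ⟨b, hb, rfl⟩ := (h.mem_im h1 h2).1 hb'
    rw [← h.act_mul (h1 ha) (h2 ha) (h1 hb) (h2 hb), ← h.act_mul (h1 hb) (h2 hb) (h1 ha) (h2 ha),
      Transfer.ea_comm hA ha hb]
  · obtain ⟨a, ha, rfl⟩ := (h.mem_im h1 h2).1 ha'
    rw [← h.act_pow (h1 ha) (h2 ha), hA.2 a ha, h.act_one]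

section lin

variable {F : Type*} [Field F] {ψ : G → Fin 2 → F}

theorem Mdl.mem_lin (h : Mdl E W Z ψ (RL F)) {e : G} (he : e ∈ E) :
    ∃ g ∈ commutator SL(2, F), act W ψ e = mvP g := by
  obtain ⟨g, hg, e⟩ := h.mem e he
  exact ⟨g, hg, e.symm⟩

theorem Mdl.onto_lin (h : Mdl E W Z ψ (RL F)) {g : SL(2, F)} (hg : g ∈ commutator SL(2, F)) :
    ∃ e ∈ E, act W ψ e = mvP g := h.onto _ (mem_map_of_mem _ hg)

theorem irr_RL (Y : AddSubgroup (Fin 2 → F)) (h : ∀ r ∈ RL F, ∀ v ∈ Y, r v ∈ Y) (v : Fin 2 → F)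
    (hv : v ∈ Y) (h0 : v ≠ 0) : Y = ⊤ := by
  refine eq_top_iff.2 fun w _ => ?_
  by_cases hw : w = 0
  · rw [hw]; exact zero_mem _
  obtain ⟨a, ha, rfl⟩ := exists_comm_mv h0
  obtain ⟨b, hb, rfl⟩ := exists_comm_mv hw
  have := h _ (mem_map_of_mem mvP (mul_mem hb (inv_mem ha))) _ hv
  rwa [mvP_apply, mv_mul, mv_inv_mv] at this

theorem Mdl.irr_lin (h : Mdl E W Z ψ (RL F)) (h1 : N ≤ W) (h2 : E ≤ 𝐍⟮N⟯) (h3 : ¬ N ≤ Z) :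
    W ≤ N ⊔ Z := h.irr irr_RL h1 h2 h3

variable [Fintype F]

theorem Mdl.semi (h : Mdl E W Z ψ (RL F)) (h0 : g ∈ 𝐍⟮E⟯) (h1 : g ∈ 𝐍⟮W⟯) (h2 : g ∈ 𝐍⟮Z⟯) :
    ∃ θ : F →+* F, ∀ c v, act W ψ g (c • v) = θ c • act W ψ g v :=
  exists_semi ⟨act W ψ g, h.act_add h1 h2⟩ fun a ha => by
    obtain ⟨_, ⟨s, hs, rfl⟩, e⟩ := h.norm h0 h1 h2 _ (mem_map_of_mem mvP ha)
    exact ⟨s, hs, fun v => congrArg (fun f : Perm _ => f v) e⟩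

theorem Mdl.scalar (h : Mdl E W Z ψ (RL F)) (h3 : 3 ≤ Fintype.card F) (h1 : g ∈ 𝐍⟮W⟯)
    (h2 : g ∈ 𝐍⟮Z⟯) (hc : ∀ e ∈ E, ⁅g, e⁆ ∈ centMod W Z) : ∃ d : F, ∀ v, act W ψ g v = d • v :=
  scalar_of_comm h3 (AddMonoidHom.mk' (act W ψ g) (h.act_add h1 h2)) fun a ha v => by
    obtain ⟨e, he, k⟩ := h.onto_lin ha
    have := (h.act_eq_one (mul_mem (mul_mem (mul_mem h1 (h.nW he)) (inv_mem h1))
      (inv_mem (h.nW he))) (mul_mem (mul_mem (mul_mem h2 (h.nZ' he)) (inv_mem h2))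
      (inv_mem (h.nZ' he)))).2 (hc e he)
    rw [h.act_mul (mul_mem (mul_mem h1 (h.nW he)) (inv_mem h1)) (mul_mem (mul_mem h2 (h.nZ' he))
      (inv_mem h2)) (inv_mem (h.nW he)) (inv_mem (h.nZ' he)), h.act_conj h1 h2 (h.nW he) (h.nZ' he),
      h.act_inv (h.nW he) (h.nZ' he), k, mul_inv_eq_one, mul_inv_eq_iff_eq_mul] at this
    exact congrArg (fun f : Perm _ => f v) this

theorem Mdl.off_lin [Fact p.Prime] [CharP F p] (h : Mdl E W Z ψ (RL F)) (h0 : A ≤ 𝐍⟮E⟯)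
    (h1 : A ≤ 𝐍⟮W⟯) (h2 : A ≤ 𝐍⟮Z⟯) (hA : IsElementaryAbelian p A) (ne : ¬ A ≤ centMod W Z) :
    (centMod W Z).relIndex A ≤ (centMod A Z).relIndex W ∧
      ((centMod A Z).relIndex W ≤ (centMod W Z).relIndex A → ∃ x ≠ 0,
        (∀ u ∈ W, u ∈ centMod A Z ↔ ∃ c : F, ψ u = c • x) ∧
        ∀ g : SL(2, F), mv g x = x → ∃ a ∈ A, act W ψ a = mvP g) := by
  obtain ⟨k1, k2⟩ := BHS.off_lin (p := p) (h.im A) (fun _ ha' => by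
      obtain ⟨a, ha, rfl⟩ := (h.mem_im h1 h2).1 ha'; exact h.act_add (h1 ha) (h2 ha))
    (fun _ ha' => by
      obtain ⟨a, ha, rfl⟩ := (h.mem_im h1 h2).1 ha'; exact h.semi (h0 ha) (h1 ha) (h2 ha))
    (h.im_ea h1 h2 hA).1 (h.im_ea h1 h2 hA).2 fun e => ne fun a ha =>
      (h.act_eq_one (h1 ha) (h2 ha)).1 (e.le ((h.mem_im h1 h2).2 ⟨a, ha, rfl⟩))
  have c : (h.fix h1 h2).index * Nat.card {v // ∀ a ∈ h.im A, a v = v} = Fintype.card F ^ 2 := by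
    rw [show Fintype.card F ^ 2 = Nat.card (Fin 2 → F) by simp]
    exact (h.fix h1 h2).index_mul_card
  have pos : 0 < Nat.card {v // ∀ a ∈ h.im A, a v = v} := @Nat.card_pos (h.fix h1 h2) _ _
  rw [h.relIndex_fix h1 h2, ← h.card_im h1 h2]
  rw [← c] at k1 k2
  refine ⟨Nat.le_of_mul_le_mul_right k1 pos, fun e => ?_⟩
  obtain ⟨x, x0, a1, a2⟩ := k2 (le_antisymm k1 (Nat.mul_le_mul_right _ e))
  refine ⟨x, x0, fun u hu => ?_, fun g hg => ?_⟩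
  · rw [← a1, h.mem_centMod h1 h2 hu]
    exact ⟨fun k a ha => by obtain ⟨g, hg, rfl⟩ := (h.mem_im h1 h2).1 ha; exact k g hg,
      fun k a ha => k _ ((h.mem_im h1 h2).2 ⟨a, ha, rfl⟩)⟩
  · obtain ⟨_, ha', e⟩ := a2 g hg
    obtain ⟨a, ha, rfl⟩ := (h.mem_im h1 h2).1 ha'
    exact ⟨a, ha, Equiv.ext e⟩

end lin

section perm

variable {n : ℕ} {ψ : G → Ev n}

theorem Mdl.mem_perm (h : Mdl E W Z ψ (RP n)) {e : G} (he : e ∈ E) :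
    ∃ g ∈ alternatingGroup (Fin n), act W ψ e = pv g := by
  obtain ⟨g, hg, e⟩ := h.mem e he
  exact ⟨g, hg, e.symm⟩

theorem Mdl.onto_perm (h : Mdl E W Z ψ (RP n)) {g : Perm (Fin n)}
    (hg : g ∈ alternatingGroup (Fin n)) : ∃ e ∈ E, act W ψ e = pv g := h.onto _ (mem_map_of_mem _ hg)

theorem Mdl.irr_perm (h : Mdl E W Z ψ (RP n)) (hn : Odd n) (h3 : 3 ≤ n) (h1 : N ≤ W)
    (h2 : E ≤ 𝐍⟮N⟯) (h4 : ¬ N ≤ Z) : W ≤ N ⊔ Z :=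
  h.irr (fun Y k _ hv h0 => ev_irr hn h3 Y (fun _ hσ => k _ (mem_map_of_mem _ hσ)) hv h0) h1 h2 h4

theorem Mdl.perm (h : Mdl E W Z ψ (RP n)) (hn : Odd n) (h3 : 3 ≤ n) (h0 : g ∈ 𝐍⟮E⟯)
    (h1 : g ∈ 𝐍⟮W⟯) (h2 : g ∈ 𝐍⟮Z⟯) : ∃ τ, act W ψ g = pv τ :=
  exists_perm hn h3 _ (h.act_add h1 h2) fun a ha => by
    obtain ⟨_, ⟨s, hs, rfl⟩, e⟩ := h.norm h0 h1 h2 _ (mem_map_of_mem pv ha)
    exact ⟨s, hs, e⟩

theorem Mdl.off_perm (h : Mdl E W Z ψ (RP n)) (hn : Odd n) (h3 : 3 ≤ n) (h0 : A ≤ 𝐍⟮E⟯)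
    (h1 : A ≤ 𝐍⟮W⟯) (h2 : A ≤ 𝐍⟮Z⟯) (hA : IsElementaryAbelian 2 A) :
    (centMod W Z).relIndex A ≤ (centMod A Z).relIndex W ∧
      ((centMod A Z).relIndex W ≤ (centMod W Z).relIndex A → ∀ a ∈ A, ∀ τ, act W ψ a = pv τ →
        ∀ x, ∃ b ∈ A, act W ψ b = pv (swap x (τ x))) := by
  set A' := (h.im A).comap pv
  have e : A'.map pv = h.im A := map_comap_eq_self fun _ ha' => by
    obtain ⟨a, ha, rfl⟩ := (h.mem_im h1 h2).1 ha'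
    obtain ⟨τ, e⟩ := h.perm hn h3 (h0 ha) (h1 ha) (h2 ha)
    exact ⟨τ, e.symm⟩
  have c1 : Nat.card (h.im A) = Nat.card A' := by rw [← e, card_map_of_injective (pv_inj h3)]
  have c2 : h.fix h1 h2 = Fx A' := by
    ext v
    exact ⟨fun k a ha => k _ ha, fun k a ha => by
      rw [← e] at ha; obtain ⟨a, ha, rfl⟩ := ha; exact k a ha⟩
  obtain ⟨k1, k2⟩ := h.im_ea h1 h2 hA
  have d1 : ∀ a ∈ A', ∀ b ∈ A', a * b = b * a := fun a ha b hb => pv_inj h3 (by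
    rw [map_mul, map_mul]; exact k1 _ ha _ hb)
  have d2 : ∀ a ∈ A', a * a = 1 := fun a ha => pv_inj h3 (by
    rw [map_mul, map_one, ← sq]; exact k2 _ ha)
  obtain ⟨i, hi⟩ := exists_fixpt hn A' fun a => ⟨1, Subtype.ext (by simpa [sq] using d2 a a.2)⟩
  rw [h.relIndex_fix h1 h2, ← h.card_im h1 h2, c1, c2]
  exact ⟨card_le_fx A' d1 hi, fun o a ha τ e x => (h.mem_im h1 h2).1
    (swap_mem_of_off A' d1 d2 hi o τ ((h.mem_im h1 h2).2 ⟨a, ha, e⟩) x)⟩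

end perm

end Cfsg.Agent.BHS
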