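import Cfsg.Agent.Classical.SL2Basic
import Mathlib.FieldTheory.Finite.Basic

/-! The derived group of `SL₂(F)` on its natural module. -/

namespace Cfsg.Agent.BHS

open Subgroup Cfsg.Agent.Classical.SL2Basic
open scoped MatrixGroups

variable {F : Type*} [Field F] {p : ℕ}

/-- The action of `SL₂(F)` on `F²`. -/
abbrev mv (g : SL(2, F)) (v : Fin 2 → F) : Fin 2 → F := (g : Matrix (Fin 2) (Fin 2) F).mulVec v

theorem mv_apply (g : SL(2, F)) (v : Fin 2 → F) (i : Fin 2) :
    mv g v i = g i 0 * v 0 + g i 1 * v 1 := by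
  simp [mv, Matrix.mulVec, dotProduct, Fin.sum_univ_two]

theorem mv_mul (g h : SL(2, F)) (v : Fin 2 → F) : mv (g * h) v = mv g (mv h v) := by
  rw [mv, Matrix.SpecialLinearGroup.coe_mul, ← Matrix.mulVec_mulVec]

theorem mv_one (v : Fin 2 → F) : mv 1 v = v := by simp [mv]

theorem mv_neg_one (v : Fin 2 → F) : mv (-1) v = -v := by simp [mv, Matrix.neg_mulVec]

theorem mv_add (g : SL(2, F)) (v w : Fin 2 → F) : mv g (v + w) = mv g v + mv g w :=
  Matrix.mulVec_add _ _ _

theorem mv_smul (g : SL(2, F)) (c : F) (v : Fin 2 → F) : mv g (c • v) = c • mv g v :=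
  Matrix.mulVec_smul _ _ _

theorem mv_zero (g : SL(2, F)) : mv g 0 = 0 := Matrix.mulVec_zero _

theorem mv_inv_mv (g : SL(2, F)) (v : Fin 2 → F) : mv g⁻¹ (mv g v) = v := by
  rw [← mv_mul, inv_mul_cancel, mv_one]

theorem mv_mv_inv (g : SL(2, F)) (v : Fin 2 → F) : mv g (mv g⁻¹ v) = v := by
  rw [← mv_mul, mul_inv_cancel, mv_one]

theorem mv_ne_zero (g : SL(2, F)) {v : Fin 2 → F} (h : v ≠ 0) : mv g v ≠ 0 := fun e =>
  h (by rw [← mv_inv_mv g v, e, mv_zero])

theorem vec_ext {v w : Fin 2 → F} (h0 : v 0 = w 0) (h1 : v 1 = w 1) : v = w := by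
  funext i; fin_cases i; exacts [h0, h1]

/-- First basis vector. -/
abbrev e0 : Fin 2 → F := ![1, 0]
/-- Second basis vector. -/
abbrev e1 : Fin 2 → F := ![0, 1]

theorem e0_ne : (e0 : Fin 2 → F) ≠ 0 := fun e => one_ne_zero (congrFun e 0)

theorem vec_dec (v : Fin 2 → F) : v = v 0 • e0 + v 1 • e1 := vec_ext (by simp) (by simp)

theorem eq_of_mv {g h : SL(2, F)} (e : ∀ v, mv g v = mv h v) : g = h := by
  have a := e e0
  have b := e e1
  have a0 := congrFun a 0; have a1 := congrFun a 1; have b0 := congrFun b 0; have b1 := congrFun b 1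
  simp only [mv_apply] at a0 a1 b0 b1
  exact sl2_ext (by simpa using a0) (by simpa using b0) (by simpa using a1) (by simpa using b1)

/-- The determinant form. -/
def dt (u v : Fin 2 → F) : F := u 0 * v 1 - u 1 * v 0

theorem dt_mv (g : SL(2, F)) (u v : Fin 2 → F) : dt (mv g u) (mv g v) = dt u v := by
  simp only [dt, mv_apply]
  linear_combination (u 0 * v 1 - u 1 * v 0) * det_eq g

theorem mv_upper (b : F) (v : Fin 2 → F) : mv (upper b) v = ![v 0 + b * v 1, v 1] :=
  vec_ext (by simp [mv_apply, upper, mkSL]) (by simp [mv_apply, upper, mkSL])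

theorem eq_upper {g : SL(2, F)} (h : mv g e0 = e0) : g = upper (g 0 1) := by
  have a0 := congrFun h 0; have a1 := congrFun h 1
  simp only [mv_apply] at a0 a1
  have h0 : g 0 0 = 1 := by simpa using a0
  have h1 : g 1 0 = 0 := by simpa using a1
  have := det_eq g
  rw [h0, h1] at this
  exact sl2_ext (by simpa [upper, mkSL] using h0) (by simp [upper, mkSL])
    (by simpa [upper, mkSL] using h1) (by simpa [upper, mkSL] using this)

/-- An element of order four. -/
def jj : SL(2, F) := mkSL 0 1 (-1) 0 (by ring)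

theorem jj_sq : (jj : SL(2, F)) * jj = -1 :=
  sl2_ext (by rw [mul_apply]; simp [jj, mkSL]) (by rw [mul_apply]; simp [jj, mkSL])
    (by rw [mul_apply]; simp [jj, mkSL]) (by rw [mul_apply]; simp [jj, mkSL])

theorem jj_ne : (jj : SL(2, F)) ≠ -1 := fun e => by
  have := congrArg (fun g : SL(2, F) => g 0 1) e
  simp [jj, mkSL] at this

theorem lower_eq (c : F) : lower c = jj * upper (-c) * jj⁻¹ := by
  rw [eq_mul_inv_iff_mul_eq]
  exact sl2_ext (by rw [mul_apply, mul_apply]; simp [jj, mkSL, upper, lower])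
    (by rw [mul_apply, mul_apply]; simp [jj, mkSL, upper, lower]) (by rw [mul_apply, mul_apply]; simp [jj, mkSL, upper, lower])
    (by rw [mul_apply, mul_apply]; simp [jj, mkSL, upper, lower])

theorem exists_mv {y : Fin 2 → F} (hy : y ≠ 0) : ∃ g : SL(2, F), mv g e0 = y := by
  by_cases h : y 0 = 0
  · have h1 : y 1 ≠ 0 := fun e => hy (vec_ext h e)
    exact ⟨mkSL 0 (-(y 1)⁻¹) (y 1) 0 (by field_simp; ring),
      vec_ext (by simp [mv_apply, mkSL, h]) (by simp [mv_apply, mkSL])⟩
  · exact ⟨mkSL (y 0) 0 (y 1) (y 0)⁻¹ (by field_simp; ring),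
      vec_ext (by simp [mv_apply, mkSL]) (by simp [mv_apply, mkSL])⟩

theorem exists_comm_upper (g : SL(2, F)) : ∃ n ∈ commutator SL(2, F), ∃ b, g = n * upper b := by
  let U : Subgroup SL(2, F) :=
    { carrier := Set.range upper
      mul_mem' := by rintro _ _ ⟨a, rfl⟩ ⟨b, rfl⟩; exact ⟨a + b, upper_add a b⟩
      one_mem' := ⟨0, upper_zero⟩
      inv_mem' := by
        rintro _ ⟨a, rfl⟩
        exact ⟨-a, eq_inv_of_mul_eq_one_left (by rw [← upper_add, neg_add_cancel, upper_zero])⟩ }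
  have : commutator SL(2, F) ⊔ U = ⊤ := eq_top_of_upper_lower _ (fun c => mem_sup_right ⟨c, rfl⟩)
    fun c => by
      have : lower c = jj * upper (-c) * jj⁻¹ * (upper (-c))⁻¹ * upper (-c) := by
        rw [lower_eq]; group
      rw [this]
      exact mul_mem (mem_sup_left (commutator_mem_commutator (mem_top _) (mem_top _)))
        (mem_sup_right ⟨_, rfl⟩)
  have h : g ∈ commutator SL(2, F) ⊔ U := this ▸ mem_top g
  obtain ⟨n, hn, _, ⟨b, rfl⟩, rfl⟩ := mem_sup_of_normal_left.1 h
  exact ⟨n, hn, b, rfl⟩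

theorem exists_comm_mv {y : Fin 2 → F} (hy : y ≠ 0) :
    ∃ g ∈ commutator SL(2, F), mv g e0 = y := by
  obtain ⟨g, rfl⟩ := exists_mv hy
  obtain ⟨n, hn, b, rfl⟩ := exists_comm_upper g
  exact ⟨n, hn, by rw [mv_mul, mv_upper]; simp⟩

theorem comm_eq_top [Fintype F] (h : 4 ≤ Fintype.card F) : commutator SL(2, F) = ⊤ := by
  classical
  have : ∃ a : F, a ∉ ({0, 1, -1} : Finset F) := by
    by_contra! hc
    have h2 := Finset.card_le_card (fun a _ => hc a : (Finset.univ : Finset F) ⊆ {0, 1, -1})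
    have h3 : ({0, 1, -1} : Finset F).card ≤ 3 := Finset.card_le_three
    rw [Finset.card_univ] at h2
    omega
  obtain ⟨a, ha⟩ := this
  simp only [Finset.mem_insert, Finset.mem_singleton, not_or] at ha
  exact Matrix.SL2.commutator_eq_top ha.1 fun h => (sq_eq_one_iff.1 h).elim ha.2.1 ha.2.2

theorem cases_of_card_le [Fintype F] (h : Fintype.card F ≤ 3) (c : F) : c = 0 ∨ c = 1 ∨ c = -1 := by
  by_cases h0 : c = 0
  · exact Or.inl h0
  have h1 := FiniteField.pow_card_sub_one_eq_one c h0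
  have h2 : 1 < Fintype.card F := Fintype.one_lt_card
  obtain e | e : Fintype.card F = 2 ∨ Fintype.card F = 3 := by omega
  · rw [e] at h1; exact Or.inr (Or.inl (by simpa using h1))
  · rw [e] at h1; exact Or.inr (sq_eq_one_iff.1 h1)

/-- Over the fields with at most three elements additive maps are linear. -/
theorem smul_of_card_le [Fintype F] (h : Fintype.card F ≤ 3) {X Y : Type*} [AddCommGroup X]
    [AddCommGroup Y] [Module F X] [Module F Y] (f : X →+ Y) (c : F) (v : X) :
    f (c • v) = c • f v := by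
  rcases cases_of_card_le h c with rfl | rfl | rfl <;> simp

section char

variable [hp : Fact p.Prime] [CharP F p]

theorem pow_mem_comm (g : SL(2, F)) : g ^ p ∈ commutator SL(2, F) := by
  obtain ⟨n, hn, b, rfl⟩ := exists_comm_upper g
  rw [← QuotientGroup.eq_one_iff, QuotientGroup.mk_pow, QuotientGroup.mk_mul,
    (QuotientGroup.eq_one_iff n).2 hn, one_mul, ← QuotientGroup.mk_pow, upper_pow_char (p := p),
    QuotientGroup.mk_one]

theorem mem_comm_of_coprime {g : SL(2, F)} (h : (orderOf g).Coprime p) :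
    g ∈ commutator SL(2, F) := by
  obtain ⟨k, hk⟩ := exists_pow_eq_self_of_coprime h.symm
  rw [← hk]; exact pow_mem (pow_mem_comm g) k

theorem mem_comm_of_sq (h2 : p ≠ 2) {g : SL(2, F)} (h : g * g = -1) :
    g ∈ commutator SL(2, F) := by
  refine mem_comm_of_coprime (p := p) (Nat.Coprime.coprime_dvd_left
    (orderOf_dvd_of_pow_eq_one (n := 2 ^ 2) ?_) ?_)
  · rw [show 2 ^ 2 = 2 * 2 from rfl, pow_mul, sq g, h]; simp
  · exact Nat.Coprime.pow_left _ ((Nat.coprime_primes Nat.prime_two hp.out).2 h2.symm)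

theorem jj_mem (h2 : p ≠ 2) : (jj : SL(2, F)) ∈ commutator SL(2, F) := mem_comm_of_sq h2 jj_sq

theorem neg_one_mem (h2 : p ≠ 2) : (-1 : SL(2, F)) ∈ commutator SL(2, F) :=
  jj_sq (F := F) ▸ mul_mem (jj_mem h2) (jj_mem h2)

end char

theorem charP_of_card [Fintype F] [Fact p.Prime] {n : ℕ} (h : Fintype.card F = p ^ n) :
    CharP F p := by
  obtain ⟨r, _, k, hr, e⟩ := FiniteField.card' F
  have : r = p := by
    have h1 : r ∣ p ^ n := by rw [← h, e]; exact dvd_pow_self r k.ne_zero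
    exact (Nat.prime_dvd_prime_iff_eq hr Fact.out).1 (hr.dvd_of_dvd_pow h1)
  subst this; assumption

/-- The additive maps commuting with `SL₂(F)'` are the scalars. -/
theorem scalar_of_comm [Fintype F] (h3 : 3 ≤ Fintype.card F) (f : (Fin 2 → F) →+ (Fin 2 → F))
    (h : ∀ g ∈ commutator SL(2, F), ∀ v, f (mv g v) = mv g (f v)) : ∃ d : F, ∀ v, f v = d • v := by
  suffices k : (f e0) 1 = 0 by
    refine ⟨f e0 0, fun v => ?_⟩
    by_cases hv : v = 0
    · simp [hv]
    obtain ⟨g, hg, rfl⟩ := exists_comm_mv hv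
    rw [h g hg, ← mv_smul]
    exact congrArg _ (vec_ext (by simp) (by simp [k]))
  rcases h3.eq_or_lt with e | e
  · haveI : Fact (Nat.Prime 3) := ⟨Nat.prime_three⟩
    haveI : CharP F 3 := charP_of_card (n := 1) e.symm
    have h30 : (3 : F) = 0 := by exact_mod_cast CharP.cast_eq_zero F 3
    let k : SL(2, F) := mkSL 1 1 1 (-1) (by linear_combination (-1 : F) * h30)
    have hk : k * k = -1 := sl2_ext (by rw [mul_apply]; simp [k, mkSL]; linear_combination h30)
      (by rw [mul_apply]; simp [k, mkSL]) (by rw [mul_apply]; simp [k, mkSL])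
      (by rw [mul_apply]; simp [k, mkSL]; linear_combination h30)
    have a := h _ (jj_mem (p := 3) (by norm_num)) e0
    have b := h _ (mem_comm_of_sq (p := 3) (by norm_num) hk) e0
    have a' : mv (jj : SL(2, F)) e0 = -e1 := vec_ext (by simp [mv_apply, jj, mkSL])
      (by simp [mv_apply, jj, mkSL])
    have b' : mv k e0 = e0 + e1 := vec_ext (by simp [mv_apply, k, mkSL]) (by simp [mv_apply, k, mkSL])
    rw [a', map_neg] at a
    rw [b', map_add] at b
    have a0 := congrFun a 0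
    have b0 := congrFun b 0
    simp [mv_apply, jj, k, mkSL] at a0 b0
    linear_combination a0 + b0 + (f e0 1) * h30
  · have a := congrFun (h (upper 1) (by rw [comm_eq_top e]; trivial) e0) 0
    rw [mv_upper, mv_upper] at a
    have : (![(e0 : Fin 2 → F) 0 + 1 * (e0 : Fin 2 → F) 1, (e0 : Fin 2 → F) 1] : Fin 2 → F) = e0 := by
      simp
    rw [this] at a
    simpa using a

/-- An additive bijection normalizing `SL₂(F)'` is semilinear. -/
theorem exists_semi [Fintype F] (a : (Fin 2 → F) ≃+ (Fin 2 → F))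
    (h : ∀ g ∈ commutator SL(2, F), ∃ g' ∈ commutator SL(2, F), ∀ v, a (mv g' v) = mv g (a v)) :
    ∃ θ : F →+* F, ∀ c v, a (c • v) = θ c • a v := by
  by_cases h3 : Fintype.card F ≤ 3
  · exact ⟨RingHom.id F, fun c v => smul_of_card_le h3 a.toAddMonoidHom c v⟩
  have k : ∀ c : F, ∃ d : F, ∀ v, a (c • v) = d • a v := fun c => by
    obtain ⟨d, hd⟩ := scalar_of_comm (by omega) (a.toAddMonoidHom.comp
      ((DistribSMul.toAddMonoidHom _ c).comp a.symm.toAddMonoidHom)) fun g hg v => by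
        obtain ⟨g', -, e⟩ := h g hg
        obtain ⟨v, rfl⟩ := a.surjective v
        simp only [AddMonoidHom.comp_apply, AddEquiv.coe_toAddMonoidHom,
          DistribSMul.toAddMonoidHom_apply, ← e, AddEquiv.symm_apply_apply, mv_smul]
    exact ⟨d, fun v => by simpa using hd (a v)⟩
  choose θ hθ using k
  have ne : a e0 ≠ 0 := fun e => e0_ne (a.map_eq_zero_iff.1 e)
  have inj : ∀ c d : F, c • a e0 = d • a e0 → c = d := fun c d e => smul_left_injective F ne e
  refine ⟨⟨⟨⟨θ, inj _ _ ?_⟩, fun c d => inj _ _ ?_⟩, inj _ _ ?_, fun c d => inj _ _ ?_⟩, hθ⟩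
  · rw [← hθ, one_smul, one_smul]
  · rw [← hθ, mul_smul, mul_smul, hθ, hθ]
  · rw [← hθ, zero_smul, zero_smul, map_zero]
  · rw [← hθ, add_smul, add_smul, map_add, hθ, hθ]

/-- A linear map preserving the determinant of the basis is in `SL₂`. -/
theorem exists_sl_of_lin (a : (Fin 2 → F) → (Fin 2 → F)) (h1 : ∀ u v, a (u + v) = a u + a v)
    (h2 : ∀ (c : F) v, a (c • v) = c • a v) (h3 : dt (a e0) (a e1) = 1) :
    ∃ g : SL(2, F), ∀ v, a v = mv g v := by
  refine ⟨mkSL (a e0 0) (a e1 0) (a e0 1) (a e1 1) (by rw [← h3, dt]; ring), fun v => ?_⟩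
  conv_lhs => rw [vec_dec v, h1, h2, h2]
  exact vec_ext (by simp [mv_apply, mkSL]; ring) (by simp [mv_apply, mkSL]; ring)

theorem dt_lin (a : (Fin 2 → F) → (Fin 2 → F)) (h1 : ∀ u v, a (u + v) = a u + a v)
    (h2 : ∀ (c : F) v, a (c • v) = c • a v) (u v : Fin 2 → F) :
    dt (a u) (a v) = dt (a e0) (a e1) * dt u v := by
  conv_lhs => rw [vec_dec u, vec_dec v, h1, h1, h2, h2, h2, h2]
  simp only [dt, Pi.add_apply, Pi.smul_apply, smul_eq_mul]; ring

/-- A linear map of `p`-power order is in `SL₂`. -/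
theorem exists_sl_of_pow [Fact p.Prime] [CharP F p] (a : Equiv.Perm (Fin 2 → F))
    (h1 : ∀ u v, a (u + v) = a u + a v) (h2 : ∀ (c : F) v, a (c • v) = c • a v) {k : ℕ}
    (h3 : a ^ p ^ k = 1) : ∃ g : SL(2, F), ∀ v, a v = mv g v := by
  refine exists_sl_of_lin a h1 h2 ?_
  have k1 : ∀ n : ℕ, dt ((a ^ n) e0) ((a ^ n) e1) = dt (a e0) (a e1) ^ n := fun n => by
    induction n with
    | zero => simp [dt]
    | succ n ih => rw [pow_succ', Equiv.Perm.mul_apply, Equiv.Perm.mul_apply, dt_lin a h1 h2, ih,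
        pow_succ']
  have := k1 (p ^ k)
  rw [h3] at this
  have e : dt (a e0) (a e1) ^ p ^ k = 1 := by rw [← this]; simp [dt]
  have e' : (dt (a e0) (a e1) - 1) ^ p ^ k = 0 := by rw [sub_pow_char_pow, e, one_pow, sub_self]
  exact sub_eq_zero.1 (pow_eq_zero_iff (pow_ne_zero _ (Fact.out : p.Prime).ne_zero) |>.1 e')

/-- An additive bijection preserving the determinant form is in `SL₂`. -/
theorem exists_sl_of_dt (a : Equiv.Perm (Fin 2 → F)) (h1 : ∀ u v, a (u + v) = a u + a v)
    (h2 : ∀ u v, dt (a u) (a v) = dt u v) : ∃ g : SL(2, F), ∀ v, a v = mv g v := by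
  refine exists_sl_of_lin a h1 (fun c v => ?_) (by rw [h2]; simp [dt])
  have k : ∀ w, dt (a (c • v)) w = dt (c • a v) w := fun w => by
    obtain ⟨w, rfl⟩ := a.surjective w
    have := h2 v w
    rw [h2]
    simp only [dt, Pi.smul_apply, smul_eq_mul] at this ⊢
    linear_combination (-c) * this
  have k0 := k e0
  have k1 := k e1
  simp only [dt] at k0 k1
  exact vec_ext (by simpa using k1) (by simpa using k0)

end Cfsg.Agent.BHS
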