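import Cfsg.Agent.BHS.Inv
import Mathlib.LinearAlgebra.Projectivization.PSL.PSL2

/-! Further facts on `SL₂(F)'`: normal subgroups, invariant forms, intertwiners. -/

namespace Cfsg.Agent.BHS

open Subgroup Cfsg.Agent.Classical.SL2Basic Equiv
open scoped MatrixGroups commutatorElement

variable {F : Type*} [Field F] {p : ℕ}

theorem pow_char_of_tr [Fact p.Prime] [CharP F p] {g : SL(2, F)} (h : tr g = 2) : g ^ p = 1 := by
  have c := cayley g
  rw [h] at c
  have k : ∀ n : ℕ, ((g ^ n : SL(2, F)) : Matrix (Fin 2) (Fin 2) F) =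
      1 + (n : F) • ((g : Matrix (Fin 2) (Fin 2) F) - 1) := fun n => by
    induction n with
    | zero => simp
    | succ n ih =>
      rw [pow_succ, Matrix.SpecialLinearGroup.coe_mul, ih, add_mul, one_mul, smul_mul_assoc, sub_mul, one_mul, c]
      push_cast
      module
  exact Subtype.ext (by rw [k, CharP.cast_eq_zero, zero_smul, add_zero]; rfl)

theorem cases_three [Fintype F] [Fact p.Prime] [CharP F p] (h2 : p ≠ 2) (h3 : Fintype.card F ≤ 3)
    {g : SL(2, F)} (h : (orderOf g).Coprime p) : g = 1 ∨ g = -1 ∨ g * g = -1 := by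
  have h20 : (2 : F) ≠ 0 := two_ne_zero_of_char h2
  have e2 : (2 : F) = -1 := by
    rcases cases_of_card_le h3 2 with e | e | e
    · exact (h20 e).elim
    · exact (one_ne_zero (α := F) (by linear_combination e)).elim
    · exact e
  have one : ∀ n : ℕ, (g ^ n) ^ p = 1 → g ^ n = 1 := fun n => pow_eq_one_of_coprime h
  rcases cases_of_card_le h3 (tr g) with e | e | e
  · exact Or.inr (Or.inr ((mul_self_eq_neg_one_iff h20).2 e))
  · have : (-g) ^ p = 1 := pow_char_of_tr (by rw [tr_neg, e, e2])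
    have e' := one 2 (by rw [← neg_sq, ← pow_mul, mul_comm, pow_mul, this, one_pow])
    exact (eq_of_mul_self_eq_one h20 (by rwa [← sq])).imp_right Or.inl
  · exact Or.inl (by simpa using one 1 (by simpa using pow_char_of_tr (e.trans e2.symm)))

theorem neg_one_mem_of_normal [Fintype F] [Fact p.Prime] [CharP F p] (h2 : p ≠ 2)
    (N : Subgroup SL(2, F)) (hn : ∀ g ∈ commutator SL(2, F), ∀ n ∈ N, g * n * g⁻¹ ∈ N)
    (ne : N ≠ ⊥) : -1 ∈ N := by
  by_cases h3 : Fintype.card F ≤ 3
  · by_cases hN : ∀ g ∈ N, (orderOf g).Coprime p → g = 1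
    · exfalso
      have : IsPGroup p (N.map mvP) := (LocalEven.isPGroup_of_forall_coprime hN).map _
      obtain ⟨x, hx, x0⟩ := this.exists_fixed_point_of_prime_dvd_card_of_fixed_point (Fin 2 → F)
        dvd_card_vec (a := 0) (by rintro ⟨_, n, -, rfl⟩; exact mv_zero n)
      refine ne (eq_bot_iff.2 fun n hn' => eq_of_mv fun v => ?_)
      by_cases hv : v = 0
      · rw [hv, mv_zero, mv_zero]
      obtain ⟨a, ha, rfl⟩ := exists_comm_mv hv
      obtain ⟨b, hb, rfl⟩ := exists_comm_mv x0.symm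
      have := hx ⟨_, mem_map_of_mem mvP (hn _ (mul_mem hb (inv_mem ha)) n hn')⟩
      change mv _ _ = _ at this
      rw [mv_one, ← mv_mv_inv b (mv n _), ← mv_mv_inv a (mv b⁻¹ _)]
      simp only [mul_inv_rev, inv_inv, mv_mul, mv_inv_mv] at this
      have e := congrArg (fun v => mv a (mv b⁻¹ v)) this
      simp only [mv_inv_mv, mv_mv_inv] at e ⊢
      exact e
    · push Not at hN
      obtain ⟨g, hg, hc, h1⟩ := hN
      rcases cases_three h2 h3 hc with e | e | e
      · exact (h1 e).elim
      · exact e ▸ hg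
      · exact e ▸ mul_mem hg hg
  have t := comm_eq_top (F := F) (by omega)
  haveI : N.Normal := ⟨fun n h g => hn g (t ▸ mem_top g) n h⟩
  haveI := Matrix.ProjectiveSpecialLinearGroup.rank_two_simple (F := F)
    (by rw [Nat.card_eq_fintype_card]; omega)
  rcases (Normal.map inferInstance _ (QuotientGroup.mk'_surjective (center SL(2, F))) :
    (N.map _).Normal).eq_bot_or_eq_top with e | e
  · obtain ⟨⟨g, hg⟩, h1⟩ := ne_bot_iff_exists_ne_one.1 ne
    rcases mk_eq_one_iff.1 (mem_bot.1 (e.le (mem_map_of_mem _ hg))) with e | e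
    · exact (h1 (Subtype.ext e)).elim
    · exact e ▸ hg
  · refine (t.ge.trans (commutator_le.2 fun a _ b _ => ?_)) (mem_top _)
    obtain ⟨a', ha, e1⟩ := e.ge (mem_top (a : PSL(2, F)))
    obtain ⟨b', hb, e2⟩ := e.ge (mem_top (b : PSL(2, F)))
    have : ⁅a, b⁆ = ⁅a', b'⁆ := by
      rcases mk_eq_mk_iff.1 e1 with rfl | rfl <;> rcases mk_eq_mk_iff.1 e2 with rfl | rfl <;>
        simp [commutatorElement_def]
    rw [this]
    exact mul_mem (mul_mem (mul_mem ha hb) (inv_mem ha)) (inv_mem hb)

/-- Invariant alternating biadditive maps factor through the determinant. -/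
theorem form_eq [Fintype F] {M : Type*} [Group M] (b : (Fin 2 → F) → (Fin 2 → F) → M)
    (h2 : ∀ x y z, b x (y + z) = b x y * b x z) (h0 : ∀ y, b 0 y = 1) (h3 : ∀ x, b x x = 1)
    (h4 : ∀ g ∈ commutator SL(2, F), ∀ x y, b (mv g x) (mv g y) = b x y) (x y : Fin 2 → F) :
    b x y = b e0 (dt x y • e1) := by
  have z : ∀ x, b x 0 = 1 := fun x => by simpa using h2 x 0 0
  have k : ∀ c : F, b e0 (c • e0) = 1 := fun c => by
    by_cases h : Fintype.card F ≤ 3
    · rcases cases_of_card_le h c with rfl | rfl | rfl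
      · rw [zero_smul, z]
      · rw [one_smul, h3]
      · have := h2 e0 e0 ((-1 : F) • e0)
        rwa [neg_one_smul, add_neg_cancel, z, h3, one_mul, eq_comm, ← neg_one_smul F] at this
    · have := h4 (upper c) (by rw [comm_eq_top (by omega)]; trivial) e0 e1
      rw [show mv (upper c) e0 = e0 by rw [mv_upper]; simp, show mv (upper c) e1 = c • e0 + e1 by
        rw [mv_upper]; exact vec_ext (by simp) (by simp), h2] at this
      simpa using this
  by_cases hx : x = 0
  · rw [hx, h0, show dt 0 y = 0 by simp [dt], zero_smul, z]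
  obtain ⟨g, hg, rfl⟩ := exists_comm_mv hx
  conv_lhs => rw [← mv_mv_inv g y, h4 g hg, vec_dec (mv g⁻¹ y), h2, k, one_mul]
  conv_rhs => rw [← mv_mv_inv g y, dt_mv]
  simp [dt]

theorem bij_of_equiv [Fintype F] (f : (Fin 2 → F) →+ (Fin 2 → F))
    (h : ∀ r ∈ RL F, ∃ s : Perm (Fin 2 → F), s 0 = 0 ∧ ∀ v, f (r v) = s (f v)) (ne : f ≠ 0) :
    Function.Bijective f := by
  refine Function.Injective.bijective_of_finite ((injective_iff_map_eq_zero f).2 fun v hv => ?_)
  by_contra h0
  have := irr_RL f.ker (fun r hr w hw => by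
    obtain ⟨s, s0, e⟩ := h r hr
    rw [AddMonoidHom.mem_ker, e, AddMonoidHom.mem_ker.1 hw, s0]) v hv h0
  exact ne (AddMonoidHom.ker_eq_top_iff.1 this)

/-- A linear map of `F₃²` whose square is `-1` has determinant one. -/
theorem exists_sl_of_sq [Fintype F] [Fact p.Prime] [CharP F p] (h2 : p ≠ 2)
    (h3 : Fintype.card F ≤ 3) (a : (Fin 2 → F) →+ (Fin 2 → F)) (h : ∀ v, a (a v) = -v) :
    ∃ g : SL(2, F), ∀ v, a v = mv g v := by
  have l := smul_of_card_le h3 a
  refine exists_sl_of_lin a a.map_add l ?_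
  have h20 : (2 : F) ≠ 0 := two_ne_zero_of_char h2
  have a0 := h e0
  have a1 := h e1
  rw [vec_dec (a e0), map_add, l, l] at a0
  rw [vec_dec (a e1), map_add, l, l] at a1
  have b0 := congrFun a0 0
  have b1 := congrFun a0 1
  have b2 := congrFun a1 0
  have b3 := congrFun a1 1
  simp only [Pi.add_apply, Pi.smul_apply, smul_eq_mul, Pi.neg_apply, Matrix.cons_val_zero,
    Matrix.cons_val_one, neg_zero, dt] at b0 b1 b2 b3 ⊢
  by_cases e : a e0 0 + a e1 1 = 0
  · linear_combination (a e0 0) * e - b0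
  · have c1 : a e0 1 = 0 := mul_right_cancel₀ e (by linear_combination b1)
    rw [c1] at b0
    rcases cases_of_card_le h3 (a e0 0) with k | k | k <;> rw [k] at b0
    · exact (one_ne_zero (α := F) (by linear_combination b0)).elim
    · exact (h20 (by linear_combination b0)).elim
    · exact (h20 (by linear_combination b0)).elim

end Cfsg.Agent.BHS
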