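import Cfsg.Agent.BHS.Basic

/-! Actions on abelian sections. -/

namespace Cfsg.Agent.BHS

open Subgroup Cfsg.Agent.LocalEven Cfsg.Agent.Glaub Equiv
open scoped commutatorElement

variable {G : Type*} [Group G] {p : ℕ} {W Z A N : Subgroup G} {X : Type*} [AddCommGroup X]
  {ψ : G → X} {g u v : G}

/-- `ψ` identifies `W / Z` with `X`. -/
structure Sec (W Z : Subgroup G) (ψ : G → X) : Prop where
  le : Z ≤ W
  mul : ∀ u ∈ W, ∀ v ∈ W, ψ (u * v) = ψ u + ψ v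
  surj : ∀ x, ∃ u ∈ W, ψ u = x
  ker : ∀ u ∈ W, ψ u = 0 ↔ u ∈ Z

open scoped _root_.Classical in
/-- The action of `g` on the section. -/
noncomputable def act (W : Subgroup G) (ψ : G → X) (g : G) : Perm X :=
  if h : ∃ a : Perm X, ∀ u ∈ W, a (ψ u) = ψ (g * u * g⁻¹) then h.choose else 1

theorem mem_centMod' (hg : g ∈ 𝐍⟮Z⟯) : g ∈ centMod W Z ↔ ∀ u ∈ W, g * u * g⁻¹ * u⁻¹ ∈ Z := by
  rw [mem_centMod, and_iff_right hg]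
  exact forall₂_congr fun u _ => by rw [← inv_mem_iff, commutatorElement_inv, commutatorElement_def]

namespace Sec

variable (h : Sec W Z ψ)
include h

theorem one : ψ 1 = 0 := (h.ker 1 (one_mem _)).2 (one_mem _)

theorem inv (hu : u ∈ W) : ψ u⁻¹ = - ψ u := by
  rw [eq_neg_iff_add_eq_zero, ← h.mul _ (inv_mem hu) _ hu, inv_mul_cancel, h.one]

theorem eq_iff (hu : u ∈ W) (hv : v ∈ W) : ψ u = ψ v ↔ u * v⁻¹ ∈ Z := by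
  rw [← h.ker _ (mul_mem hu (inv_mem hv)), h.mul _ hu _ (inv_mem hv), h.inv hv, ← sub_eq_add_neg,
    sub_eq_zero]

theorem pow (hu : u ∈ W) (n : ℕ) : ψ (u ^ n) = n • ψ u := by
  induction n with
  | zero => simp [h.one]
  | succ n ih => rw [pow_succ, h.mul _ (pow_mem hu n) _ hu, ih, succ_nsmul]

theorem nZ : W ≤ 𝐍⟮Z⟯ := le_normalizer_of_cj_le fun g hg => cj_le_iff'.2 fun z hz => by
  rw [← h.ker _ (mul_mem (mul_mem hg (h.le hz)) (inv_mem hg)), h.mul _ (mul_mem hg (h.le hz)) _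
    (inv_mem hg), h.mul _ hg _ (h.le hz), h.inv hg, (h.ker _ (h.le hz)).2 hz]
  simp

theorem conj_eq (h1 : g ∈ 𝐍⟮W⟯) (h2 : g ∈ 𝐍⟮Z⟯) (hu : u ∈ W) (hv : v ∈ W) :
    ψ (g * u * g⁻¹) = ψ (g * v * g⁻¹) ↔ ψ u = ψ v := by
  rw [h.eq_iff (conj_mem_of_mem_normalizer h1 hu) (conj_mem_of_mem_normalizer h1 hv), h.eq_iff hu hv,
    (mem_normalizer_iff.1 h2) (u * v⁻¹)]
  congr! 1; group

theorem act_apply (h1 : g ∈ 𝐍⟮W⟯) (h2 : g ∈ 𝐍⟮Z⟯) (hu : u ∈ W) :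
    act W ψ g (ψ u) = ψ (g * u * g⁻¹) := by
  have k : ∃ a : Perm X, ∀ u ∈ W, a (ψ u) = ψ (g * u * g⁻¹) := by
    choose s hs hs' using h.surj
    refine ⟨Equiv.ofBijective (fun x => ψ (g * s x * g⁻¹)) ⟨fun x y e => ?_, fun y => ?_⟩,
      fun u hu => (h.conj_eq h1 h2 (hs _) hu).2 (hs' _)⟩
    · rw [← hs' x, ← hs' y]; exact (h.conj_eq h1 h2 (hs x) (hs y)).1 e
    · refine ⟨ψ (g⁻¹ * s y * g), ((h.conj_eq h1 h2 (hs _)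
        (inv_conj_mem_of_mem_normalizer h1 (hs y))).2 (hs' _)).trans ?_⟩
      rw [← hs' y]; congr 1; rw [hs']; group
  rw [act, dif_pos k]; exact k.choose_spec u hu

theorem act_eq (h1 : g ∈ 𝐍⟮W⟯) (h2 : g ∈ 𝐍⟮Z⟯) {a : X → X}
    (e : ∀ u ∈ W, ψ (g * u * g⁻¹) = a (ψ u)) (x : X) : act W ψ g x = a x := by
  obtain ⟨u, hu, rfl⟩ := h.surj x
  rw [h.act_apply h1 h2 hu, e u hu]

theorem act_add (h1 : g ∈ 𝐍⟮W⟯) (h2 : g ∈ 𝐍⟮Z⟯) (x y : X) :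
    act W ψ g (x + y) = act W ψ g x + act W ψ g y := by
  obtain ⟨u, hu, rfl⟩ := h.surj x
  obtain ⟨v, hv, rfl⟩ := h.surj y
  rw [← h.mul u hu v hv, h.act_apply h1 h2 hu, h.act_apply h1 h2 hv, h.act_apply h1 h2 (mul_mem hu hv),
    ← h.mul _ (conj_mem_of_mem_normalizer h1 hu) _ (conj_mem_of_mem_normalizer h1 hv)]
  congr 1; group

theorem act_zero (h1 : g ∈ 𝐍⟮W⟯) (h2 : g ∈ 𝐍⟮Z⟯) : act W ψ g 0 = 0 := by
  simpa using h.act_add h1 h2 0 0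

theorem act_neg (h1 : g ∈ 𝐍⟮W⟯) (h2 : g ∈ 𝐍⟮Z⟯) (x : X) : act W ψ g (-x) = - act W ψ g x := by
  rw [eq_neg_iff_add_eq_zero, ← h.act_add h1 h2, neg_add_cancel, h.act_zero h1 h2]

theorem act_mul {k : G} (h1 : g ∈ 𝐍⟮W⟯) (h2 : g ∈ 𝐍⟮Z⟯) (k1 : k ∈ 𝐍⟮W⟯) (k2 : k ∈ 𝐍⟮Z⟯) :
    act W ψ (g * k) = act W ψ g * act W ψ k := Equiv.ext fun x => by
  obtain ⟨u, hu, rfl⟩ := h.surj x
  rw [Perm.mul_apply, h.act_apply k1 k2 hu, h.act_apply h1 h2 (conj_mem_of_mem_normalizer k1 hu),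
    h.act_apply (mul_mem h1 k1) (mul_mem h2 k2) hu]
  congr 1; group

/-- The action as a homomorphism. -/
noncomputable def rep : ↥(𝐍⟮W⟯ ⊓ 𝐍⟮Z⟯) →* Perm X :=
  MonoidHom.mk' (fun g => act W ψ g) fun g k => h.act_mul g.2.1 g.2.2 k.2.1 k.2.2

theorem act_one : act W ψ 1 = 1 := map_one h.rep

theorem act_inv (h1 : g ∈ 𝐍⟮W⟯) (h2 : g ∈ 𝐍⟮Z⟯) : act W ψ g⁻¹ = (act W ψ g)⁻¹ :=
  map_inv h.rep ⟨g, h1, h2⟩

theorem act_pow (h1 : g ∈ 𝐍⟮W⟯) (h2 : g ∈ 𝐍⟮Z⟯) (n : ℕ) : act W ψ (g ^ n) = act W ψ g ^ n :=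
  map_pow h.rep ⟨g, h1, h2⟩ n

theorem act_conj {k : G} (h1 : g ∈ 𝐍⟮W⟯) (h2 : g ∈ 𝐍⟮Z⟯) (k1 : k ∈ 𝐍⟮W⟯) (k2 : k ∈ 𝐍⟮Z⟯) :
    act W ψ (g * k * g⁻¹) = act W ψ g * act W ψ k * (act W ψ g)⁻¹ := by
  rw [h.act_mul (mul_mem h1 k1) (mul_mem h2 k2) (inv_mem h1) (inv_mem h2), h.act_mul h1 h2 k1 k2,
    h.act_inv h1 h2]

theorem fix_iff (h1 : g ∈ 𝐍⟮W⟯) (h2 : g ∈ 𝐍⟮Z⟯) (hu : u ∈ W) :
    act W ψ g (ψ u) = ψ u ↔ g * u * g⁻¹ * u⁻¹ ∈ Z := by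
  rw [h.act_apply h1 h2 hu, h.eq_iff (conj_mem_of_mem_normalizer h1 hu) hu]

theorem act_eq_one (h1 : g ∈ 𝐍⟮W⟯) (h2 : g ∈ 𝐍⟮Z⟯) : act W ψ g = 1 ↔ g ∈ centMod W Z := by
  rw [mem_centMod' h2]
  refine ⟨fun e u hu => (h.fix_iff h1 h2 hu).1 (by rw [e]; rfl), fun e => Equiv.ext fun x => ?_⟩
  obtain ⟨u, hu, rfl⟩ := h.surj x
  exact (h.fix_iff h1 h2 hu).2 (e u hu)

theorem act_eq_iff {k : G} (h1 : g ∈ 𝐍⟮W⟯) (h2 : g ∈ 𝐍⟮Z⟯) (k1 : k ∈ 𝐍⟮W⟯) (k2 : k ∈ 𝐍⟮Z⟯) :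
    act W ψ g = act W ψ k ↔ g⁻¹ * k ∈ centMod W Z := by
  rw [← h.act_eq_one (mul_mem (inv_mem h1) k1) (mul_mem (inv_mem h2) k2),
    h.act_mul (inv_mem h1) (inv_mem h2) k1 k2, h.act_inv h1 h2, inv_mul_eq_one]

theorem comm (h1 : g ∈ 𝐍⟮W⟯) (h2 : g ∈ 𝐍⟮Z⟯) (hu : u ∈ W) :
    ψ (g * u * g⁻¹ * u⁻¹) = act W ψ g (ψ u) - ψ u := by
  rw [h.mul _ (conj_mem_of_mem_normalizer h1 hu) _ (inv_mem hu), h.inv hu, h.act_apply h1 h2 hu,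
    sub_eq_add_neg]

/-- The image of a subgroup acting on the section. -/
noncomputable def im (A : Subgroup G) : Subgroup (Perm X) := (A.subgroupOf _).map h.rep

theorem mem_im (h1 : A ≤ 𝐍⟮W⟯) (h2 : A ≤ 𝐍⟮Z⟯) {a : Perm X} :
    a ∈ h.im A ↔ ∃ g ∈ A, act W ψ g = a :=
  ⟨fun ⟨g, hg, e⟩ => ⟨g, hg, e⟩, fun ⟨g, hg, e⟩ => ⟨⟨g, h1 hg, h2 hg⟩, hg, e⟩⟩

theorem card_im (h1 : A ≤ 𝐍⟮W⟯) (h2 : A ≤ 𝐍⟮Z⟯) : Nat.card (h.im A) = (centMod W Z).relIndex A := by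
  have : h.rep.ker = (centMod W Z).subgroupOf _ := by
    ext g; exact h.act_eq_one g.2.1 g.2.2
  rw [im, ← relIndex_ker, this, relIndex_subgroupOf (le_inf h1 h2)]

/-- The additive homomorphism. -/
def hom : W →* Multiplicative X :=
  MonoidHom.mk' (fun u => Multiplicative.ofAdd (ψ u)) fun u v => h.mul u u.2 v v.2

/-- The preimage of an additive subgroup. -/
def pre (Y : AddSubgroup X) : Subgroup G := (Y.toSubgroup.comap h.hom).map W.subtype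

theorem mem_pre {Y : AddSubgroup X} : u ∈ h.pre Y ↔ u ∈ W ∧ ψ u ∈ Y :=
  ⟨by rintro ⟨u, hu, rfl⟩; exact ⟨u.2, hu⟩, fun ⟨a, b⟩ => ⟨⟨u, a⟩, b, rfl⟩⟩

theorem relIndex_pre (Y : AddSubgroup X) : (h.pre Y).relIndex W = Y.index := by
  rw [relIndex, pre, map_subtype_subgroupOf, index_comap_of_surjective _ fun x => by
    obtain ⟨u, hu, e⟩ := h.surj x.toAdd
    exact ⟨⟨u, hu⟩, e⟩]
  exact AddSubgroup.index_toSubgroup Y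

theorem relIndex_eq {K : Subgroup G} (Y : AddSubgroup X) (e : ∀ u ∈ W, u ∈ K ↔ ψ u ∈ Y) :
    K.relIndex W = Y.index := by
  rw [← h.relIndex_pre, ← inf_relIndex_right]
  congr 1; ext u
  rw [h.mem_pre, mem_inf, and_comm]
  exact and_congr_right (e u)

theorem card : Z.relIndex W = Nat.card X := by
  rw [h.relIndex_eq ⊥ fun u hu => (h.ker u hu).symm, AddSubgroup.index_bot]

/-- The image of a subgroup of the section. -/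
def img (N : Subgroup G) : AddSubgroup X := Subgroup.toAddSubgroup' ((N.subgroupOf W).map h.hom)

theorem mem_img (hN : N ≤ W) {x : X} : x ∈ h.img N ↔ ∃ u ∈ N, ψ u = x :=
  ⟨fun ⟨u, hu, e⟩ => ⟨u, hu, e⟩, fun ⟨u, hu, e⟩ => ⟨⟨u, hN hu⟩, hu, e⟩⟩

theorem le_sup_of (hN : N ≤ W) (e : ∀ x, ∃ u ∈ N, ψ u = x) : W ≤ N ⊔ Z := fun u hu => by
  obtain ⟨v, hv, e⟩ := e (ψ u)
  have := (h.eq_iff hu (hN hv)).1 e.symm
  rw [show u = u * v⁻¹ * v by group]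
  exact mul_mem (mem_sup_right this) (mem_sup_left hv)

theorem sub (hN : N ≤ W) (e : W ≤ N ⊔ Z) : Sec N (N ⊓ Z) ψ where
  le := inf_le_left
  mul u hu v hv := h.mul u (hN hu) v (hN hv)
  surj x := by
    obtain ⟨u, hu, rfl⟩ := h.surj x
    obtain ⟨a, ha, z, hz, rfl⟩ := (mem_sup_iff_of_le_normalizer (hN.trans h.nZ)).1 (e hu)
    exact ⟨a, ha, by rw [h.mul a (hN ha) z (h.le hz), (h.ker z (h.le hz)).2 hz, add_zero]⟩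
  ker u hu := by rw [h.ker u (hN hu), mem_inf, and_iff_right hu]

end Sec

end Cfsg.Agent.BHS
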